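import Groth.Agent.LcSh80.Hom
import Groth.Agent.LC.CohDerived
import Groth.Agent.PunctCoh79.Flasque
import Groth.Agent.SiteBase.DerivedPrecompAcyclic
import Groth.Agent.QCoh.ToSheaf

/-!
# Cohomology with supports on a Noetherian affine scheme is local cohomology
-/

set_option autoImplicit false
set_option linter.style.haveILetI false

universe u

open CategoryTheory CategoryTheory.Limits Opposite TopologicalSpace AlgebraicGeometry

noncomputable section

namespace Groth.Agent.LcSh80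

open SpObjSS (homFrom)
open PunctCoh79 (secMap secRes secTilde bO)

variable {R : CommRingCat.{u}}

/-- `M ↦ M~` as an abelian sheaf. -/
def tAb (R : CommRingCat.{u}) : ModuleCat.{u} R ⥤ CohTop.Ab (Spec R).carrier :=
  tilde.functor R ⋙ QCoh.toAbFunctor (Spec R)

instance : (tAb R).Additive where
  map_add {M N f g} := by
    show (QCoh.toAbFunctor (Spec R)).map ((tilde.functor R).map (f + g)) = _
    rw [Functor.map_add, Functor.map_add]
    rfl

theorem preservesFiniteLimits_tAb : PreservesFiniteLimits (tAb R) := by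
  haveI : PreservesFiniteLimits (tilde.functor R) := QCoh.tilde_preservesFiniteLimits
  exact comp_preservesFiniteLimits (tilde.functor R) (QCoh.toAbFunctor (Spec R))

theorem preservesFiniteColimits_tAb : PreservesFiniteColimits (tAb R) := by
  haveI : (tilde.functor R).IsLeftAdjoint := (tilde.adjunction (R := R)).isLeftAdjoint
  haveI : PreservesFiniteColimits (tilde.functor R) :=
    ⟨fun J _ _ => (tilde.adjunction (R := R)).leftAdjoint_preservesColimits.preservesColimitsOfShape⟩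
  haveI : PreservesFiniteColimits (QCoh.toAbFunctor (Spec R)) := by
    haveI := QCoh.toAbFunctor_preservesHomology (Spec R)
    exact Functor.preservesFiniteColimits_of_preservesHomology _
  exact comp_preservesFiniteColimits (tilde.functor R) (QCoh.toAbFunctor (Spec R))

theorem isFlasque_tAb_of_injective [IsNoetherianRing R] (M : ModuleCat.{u} R) [Injective M] :
    TopCat.Sheaf.IsFlasque ((tAb R).obj M) := by
  constructor
  intro U V i
  rw [AddCommGrpCat.epi_iff_surjective]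
  intro s
  obtain ⟨m, hm⟩ := PunctCoh79.secMap_surjective_of_injective M V.unop s
  refine ⟨secMap M U.unop m, ?_⟩
  exact (PunctCoh79.secRes_secMap M (leOfHom i.unop) m).trans hm

variable {I : Ideal R} {U : (Spec R).Opens}

theorem bO_le (hU : ∀ p : Spec R, p ∈ U ↔ ¬ I ≤ p.asIdeal) {g : R} (hg : g ∈ I) : bO g ≤ U :=
  fun p hp => (hU p).2 fun h => PunctCoh79.mem_bO.1 hp (h hg)

theorem exists_mem_bO (hU : ∀ p : Spec R, p ∈ U ↔ ¬ I ≤ p.asIdeal) {p : Spec R} (hp : p ∈ U) :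
    ∃ g ∈ I, p ∈ bO g :=
  SetLike.not_le_iff_exists.1 ((hU p).1 hp)

theorem mem_torsionSub_of_secMap_eq_zero (hI : I.FG) (hU : ∀ p : Spec R, p ∈ U ↔ ¬ I ≤ p.asIdeal)
    (M : ModuleCat.{u} R) (m : M) (h : secMap M U m = 0) : m ∈ DRing.torsionSub I M := by
  have hr : I ≤ (Submodule.span R {m}).annihilator.radical := fun g hg => by
    have h0 : secMap M (bO g) m = 0 := by
      rw [← PunctCoh79.secRes_secMap M (bO_le hU hg), h, map_zero]
    obtain ⟨n, hn⟩ := (PunctCoh79.secMap_eq_zero_iff M g m).1 h0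
    exact ⟨n, (Submodule.mem_annihilator_span_singleton m (g ^ n)).2 hn⟩
  obtain ⟨n, hn⟩ := Ideal.exists_pow_le_of_le_radical_of_fg hr hI
  exact ⟨n, fun a ha => (Submodule.mem_annihilator_span_singleton m a).1 (hn ha)⟩

theorem secMap_eq_zero_of_mem_torsionSub (hU : ∀ p : Spec R, p ∈ U ↔ ¬ I ≤ p.asIdeal)
    (M : ModuleCat.{u} R) (m : M) (h : m ∈ DRing.torsionSub I M) : secMap M U m = 0 := by
  obtain ⟨n, hn⟩ := h
  refine PunctCoh79.sec_ext _ (fun g : {g : R // g ∈ I} => bO g.1) (fun g => bO_le hU g.2)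
    (fun p hp => ?_) fun g => ?_
  · obtain ⟨g, hg, hgp⟩ := exists_mem_bO hU hp
    exact ⟨⟨g, hg⟩, hgp⟩
  · rw [PunctCoh79.secRes_secMap, map_zero]
    exact (PunctCoh79.secMap_eq_zero_iff M g.1 m).2 ⟨n, hn _ (Ideal.pow_mem_pow g.2 n)⟩

theorem secMap_top_bijective (M : ModuleCat.{u} R) :
    Function.Bijective (secMap M (⊤ : (Spec R).Opens)) :=
  ConcreteCategory.bijective_of_isIso (tilde.toOpen M ⊤)

/-- `Γ_I M ≃ Γ_Z(Spec R, M~)`, as sections. -/
theorem exists_torsion_hom_equiv (hI : I.FG) (hU : ∀ p : Spec R, p ∈ U ↔ ¬ I ≤ p.asIdeal)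
    (M : ModuleCat.{u} R) :
    ∃ e : DRing.torsionSub I M ≃+ (LocCohZ.zq (le_top : U ≤ ⊤) ⟶ (tAb R).obj M),
      ∀ t, zqHom (le_top : U ≤ ⊤) ((tAb R).obj M) (e t) = secMap M ⊤ t.1 := by
  let z := zqHom (le_top : U ≤ ⊤) ((tAb R).obj M)
  let f : DRing.torsionSub I M →+ ((tAb R).obj M).obj.obj (op ⊤) :=
    AddMonoidHom.mk' (fun t => secMap M ⊤ t.1) fun a b => (secMap M ⊤).map_add a.1 b.1
  have hex : ∀ t, ∃ φ, z φ = f t := fun t =>
    (range_zqHom _ _ _).2 ((PunctCoh79.secRes_secMap M (le_top : U ≤ ⊤) t.1).trans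
      (secMap_eq_zero_of_mem_torsionSub hU M t.1 t.2))
  let g : DRing.torsionSub I M →+ (LocCohZ.zq (le_top : U ≤ ⊤) ⟶ (tAb R).obj M) :=
    AddMonoidHom.mk' (fun t => (hex t).choose) fun a b => zqHom_injective _ _
      ((hex (a + b)).choose_spec.trans ((map_add f a b).trans (Eq.trans
        (congrArg₂ (· + ·) (hex a).choose_spec.symm (hex b).choose_spec.symm) (map_add z _ _).symm)))
  have hg : ∀ t, z (g t) = f t := fun t => (hex t).choose_spec
  refine ⟨AddEquiv.ofBijective g ⟨fun a b hab => ?_, fun φ => ?_⟩, hg⟩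
  · exact Subtype.ext ((secMap_top_bijective M).1 ((hg a).symm.trans ((congrArg z hab).trans (hg b))))
  · obtain ⟨m, hm⟩ := (secMap_top_bijective M).2 (z φ)
    have h0 : secMap M U m = 0 := by
      rw [← PunctCoh79.secRes_secMap M (le_top : U ≤ ⊤) m, hm]
      exact (range_zqHom _ _ _).1 ⟨φ, rfl⟩
    exact ⟨⟨m, mem_torsionSub_of_secMap_eq_zero hI hU M m h0⟩, zqHom_injective _ _ ((hg _).trans hm)⟩

theorem nonempty_tAb_homFrom_iso (hI : I.FG) (hU : ∀ p : Spec R, p ∈ U ↔ ¬ I ≤ p.asIdeal) :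
    Nonempty (tAb R ⋙ homFrom (LocCohZ.zq (le_top : U ≤ ⊤)) ≅
      DRing.gammaI I ⋙ forget₂ (ModuleCat.{u} R) AddCommGrpCat.{u}) := by
  choose e he using fun M => exists_torsion_hom_equiv hI hU M
  refine ⟨(NatIso.ofComponents
    (fun M => AddEquiv.toAddCommGrpIso (X := (DRing.gammaI I ⋙ forget₂ (ModuleCat.{u} R) AddCommGrpCat.{u}).obj M)
      (Y := (tAb R ⋙ homFrom (LocCohZ.zq (le_top : U ≤ ⊤))).obj M) (e M)) fun {M N} g => ?_).symm⟩
  refine AddCommGrpCat.hom_ext (AddMonoidHom.ext fun t => ?_)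
  apply zqHom_injective (le_top : U ≤ ⊤)
  refine (he N _).trans ?_
  refine Eq.trans ?_ (zqHom_comp (le_top : U ≤ ⊤) (e M t) ((tAb R).map g)).symm
  refine Eq.trans (PunctCoh79.secTilde_secMap g ⊤ t.1).symm ?_
  exact (congrArg (fun s => secTilde g ⊤ s) (he M t)).symm

/-- `H^i_Z(Spec A, M~) = H^i_I(M)` naturally in `M`. -/
theorem nonempty_extFunctor_tAb_iso [IsNoetherianRing R] (hU : ∀ p : Spec R, p ∈ U ↔ ¬ I ≤ p.asIdeal) (i : ℕ) :
    Nonempty (tAb R ⋙ Abelian.extFunctorObj.{u} (LocCohZ.zq (le_top : U ≤ ⊤)) i ≅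
      localCohomology I i ⋙ forget₂ (ModuleCat.{u} R) AddCommGrpCat.{u}) := by
  haveI := preservesFiniteLimits_tAb (R := R)
  haveI := preservesFiniteColimits_tAb (R := R)
  let Z := LocCohZ.zq (le_top : U ≤ ⊤)
  obtain ⟨η⟩ := nonempty_tAb_homFrom_iso (IsNoetherian.noetherian I) hU
  obtain ⟨e⟩ := SiteBase.nonempty_rightDerived_precomp_of_acyclic (tAb R) (homFrom Z) (fun Q hQ j => by
    haveI := hQ
    haveI := isFlasque_tAb_of_injective Q
    refine IsZero.of_iso ?_ (SpObjSS.rightDerivedHomFromIso Z (j + 1) ((tAb R).obj Q))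
    haveI := subsingleton_HZ_of_isFlasque ((tAb R).obj Q) (le_top : U ≤ ⊤) j
    exact AddCommGrpCat.isZero_of_subsingleton _) i
  exact ⟨(Functor.isoWhiskerLeft (tAb R) (SuppCore.rightDerivedHomFromNatIso Z i)).symm ≪≫ e.symm ≪≫
    SiteBase.rightDerivedCongr η i ≪≫
      SiteBase.rightDerivedCompIso (DRing.gammaI I) (forget₂ (ModuleCat.{u} R) AddCommGrpCat.{u}) i ≪≫
        (Functor.isoWhiskerRight (LC.derivedIso I i) _).symm⟩

/-- `H^i_Z(Spec A, M~) ≃ H^i_I(M)`. -/
theorem nonempty_HZM_tilde_equiv (A : Type u) [CommRing A] [IsNoetherianRing A] (I : Ideal A) (M : Type u)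
    [AddCommGroup M] [Module A M] (i : ℕ) :
    Nonempty (LocCohZ.HZM (Spec (CommRingCat.of A)) (tilde (R := CommRingCat.of A) (ModuleCat.of A M)) i
      (LocCoh.puncturedOpen A I) ≃+ LocCoh.H I i M) := by
  obtain ⟨e⟩ := nonempty_extFunctor_tAb_iso (R := CommRingCat.of A) (I := I)
    (U := LocCoh.puncturedOpen A I) (fun p => Iff.rfl) i
  exact ⟨(e.app (ModuleCat.of A M)).addCommGroupIsoToAddEquiv⟩

end Groth.Agent.LcSh80

end
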