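import Groth.Agent.SuppFamLib.Exact

/-!
# The sheaf of sections with supports in a closed subset, and its derived functors
-/

set_option autoImplicit false
set_option linter.style.haveILetI false

universe u

open CategoryTheory CategoryTheory.Limits Opposite TopologicalSpace TopCat Topology

noncomputable section

namespace Groth.Agent.LcSh80

open SuppFamLib (res_res res_eq_zero_iff unit_app_eq_zero_iff exists_kernel_section_iff kernel_ι_injective
  app_injective_of_mono exists_section_of_shortExact)

variable {X : TopCat.{u}} (U : Opens X)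

local notation "JX" => Opens.grothendieckTopology X

/-- Sections of `Γ_Z F` as sections of `F`. -/
def incl (F : CohTop.Ab X) (V : Opens X) :
    ((LocCohZ.sectSuppF U).obj F).obj.obj (op V) →+ F.obj.obj (op V) :=
  ((kernel.ι ((TopCat.Sheaf.pullbackPushforwardAdjunction AddCommGrpCat.{u} (CohCx.incl U)).unit.app F)).hom.app
    (op V)).hom

theorem incl_injective (F : CohTop.Ab X) (V : Opens X) : Function.Injective (incl U F V) :=
  kernel_ι_injective _ V

theorem range_incl (F : CohTop.Ab X) (V : Opens X) (s : F.obj.obj (op V)) :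
    (∃ t, incl U F V t = s) ↔ F.obj.map (homOfLE (inf_le_left : V ⊓ U ≤ V)).op s = 0 := by
  refine (exists_kernel_section_iff _ V s).trans ((unit_app_eq_zero_iff U F V s).trans ?_)
  refine (res_eq_zero_iff F (inf_comm V U).le (inf_comm V U).ge _).symm.trans
    (Iff.of_eq (congrArg (fun z => z = 0) ?_))
  exact res_res F _ _ s

theorem incl_res (F : CohTop.Ab X) {A B : Opens X} (f : A ⟶ B)
    (t : ((LocCohZ.sectSuppF U).obj F).obj.obj (op B)) :
    incl U F A (((LocCohZ.sectSuppF U).obj F).obj.map f.op t) = F.obj.map f.op (incl U F B t) :=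
  ConcreteCategory.congr_hom
    ((kernel.ι ((TopCat.Sheaf.pullbackPushforwardAdjunction AddCommGrpCat.{u} (CohCx.incl U)).unit.app F)).hom.naturality
      f.op) t

theorem incl_map {F G : CohTop.Ab X} (g : F ⟶ G) (V : Opens X)
    (t : ((LocCohZ.sectSuppF U).obj F).obj.obj (op V)) :
    incl U G V ((((LocCohZ.sectSuppF U).map g).hom.app (op V)).hom t) =
      (g.hom.app (op V)).hom (incl U F V t) := by
  have hk : (LocCohZ.sectSuppF U).map g ≫
      kernel.ι ((TopCat.Sheaf.pullbackPushforwardAdjunction AddCommGrpCat.{u} (CohCx.incl U)).unit.app G) =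
      kernel.ι ((TopCat.Sheaf.pullbackPushforwardAdjunction AddCommGrpCat.{u} (CohCx.incl U)).unit.app F) ≫ g :=
    kernel.lift_ι _ _ _
  exact congrArg (fun a => (a.hom.app (op V)).hom t) hk

/-- `V ↦ ℤ_V/ℤ_{V ∩ U}`. -/
def zqP : Opens X ⥤ CohTop.Ab X where
  obj V := LocCohZ.zq (inf_le_left : V ⊓ U ≤ V)
  map {A B} f := LocCohZ.zqMap inf_le_left inf_le_left (inf_le_inf_right U (leOfHom f)) (leOfHom f)
  map_id A := SuppFam.zqMap_id _
  map_comp f g := (SuppFam.zqMap_comp _ _ _ _ _ _ _).symm

/-- A morphism out of `ℤ_V/ℤ_{V∩U}` as a section. -/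
def evq (F : CohTop.Ab X) (V : Opens X) : ((zqP U).obj V ⟶ F) →+ F.obj.obj (op V) :=
  (CohFree.evalGen JX V F).comp (Preadditive.leftComp F (cokernel.π _))

theorem evq_injective (F : CohTop.Ab X) (V : Opens X) : Function.Injective (evq U F V) := by
  intro a b hab
  apply coequalizer.hom_ext
  exact (CohFree.homEquivSect JX V F).injective hab

theorem range_evq (F : CohTop.Ab X) (V : Opens X) (s : F.obj.obj (op V)) :
    (∃ φ, evq U F V φ = s) ↔ F.obj.map (homOfLE (inf_le_left : V ⊓ U ≤ V)).op s = 0 := by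
  constructor
  · rintro ⟨φ, rfl⟩
    refine (CohFree.evalGen_freeSheafMap_comp JX (homOfLE (inf_le_left : V ⊓ U ≤ V)) F (cokernel.π _ ≫ φ)).symm.trans ?_
    exact (congrArg _ ((cokernel.condition_assoc (CohCx.freeSheafMap JX (homOfLE (inf_le_left : V ⊓ U ≤ V))) φ).trans zero_comp)).trans (map_zero _)
  · intro hs
    have hz : CohCx.freeSheafMap JX (homOfLE (inf_le_left : V ⊓ U ≤ V)) ≫ CohFree.ofSect JX V F s = 0 := by
      apply (CohFree.homEquivSect JX (V ⊓ U) F).injective
      rw [map_zero, CohFree.homEquivSect_apply, CohFree.evalGen_freeSheafMap_comp, CohFree.evalGen_ofSect]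
      exact hs
    refine ⟨cokernel.desc _ _ hz, ?_⟩
    refine (congrArg (CohFree.evalGen JX V F) (cokernel.π_desc _ _ hz)).trans ?_
    exact CohFree.evalGen_ofSect JX _ F s

theorem exists_eq (F : CohTop.Ab X) (V : Opens X) (φ : (zqP U).obj V ⟶ F) :
    ∃ t, incl U F V t = evq U F V φ :=
  (range_incl U F V _).2 ((range_evq U F V _).1 ⟨φ, rfl⟩)

/-- Sections with supports are morphisms out of `ℤ_V/ℤ_{V∩U}`. -/
def σ (F : CohTop.Ab X) (V : Opens X) :
    ((zqP U).obj V ⟶ F) ≃+ ((LocCohZ.sectSuppF U).obj F).obj.obj (op V) :=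
  AddEquiv.ofBijective
    (AddMonoidHom.mk' (fun φ => (exists_eq U F V φ).choose) fun a b => incl_injective U F V
      ((exists_eq U F V (a + b)).choose_spec.trans ((map_add _ a b).trans (Eq.trans
        (congrArg₂ (· + ·) (exists_eq U F V a).choose_spec.symm (exists_eq U F V b).choose_spec.symm)
        (map_add _ _ _).symm))))
    ⟨fun a b hab => evq_injective U F V (by
      rw [← (exists_eq U F V a).choose_spec, ← (exists_eq U F V b).choose_spec]
      exact congrArg (incl U F V) hab),
    fun t => by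
      obtain ⟨φ, hφ⟩ := (range_evq U F V _).2 ((range_incl U F V _).1 ⟨t, rfl⟩)
      exact ⟨φ, incl_injective U F V ((exists_eq U F V φ).choose_spec.trans hφ)⟩⟩

theorem incl_σ (F : CohTop.Ab X) (V : Opens X) (φ : (zqP U).obj V ⟶ F) :
    incl U F V (σ U F V φ) = evq U F V φ :=
  (exists_eq U F V φ).choose_spec

/-- `Γ_Z` as a presheaf valued functor is represented by the `ℤ_V/ℤ_{V∩U}`. -/
def pres : SiteBase.HomPres (zqP U) (LocCohZ.sectSuppF U ⋙ sheafToPresheaf JX AddCommGrpCat.{u}) where
  σ F V := σ U F V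
  σ_comp {F G} V φ g := incl_injective U G V (by
    refine (incl_σ U G V _).trans ?_
    refine Eq.trans ?_ (incl_map U g V _).symm
    rw [incl_σ]
    rfl)
  σ_map {F A B} f φ := incl_injective U F B (by
    refine (incl_σ U F B _).trans ?_
    refine Eq.trans ?_ (incl_res U F f _).symm
    rw [incl_σ]
    refine Eq.trans ?_ (CohFree.evalGen_freeSheafMap_comp JX f F (cokernel.π _ ≫ φ))
    have hπ : cokernel.π (CohCx.freeSheafMap JX (homOfLE (inf_le_left : B ⊓ U ≤ B))) ≫ (zqP U).map f =
        CohCx.freeSheafMap JX f ≫ cokernel.π (CohCx.freeSheafMap JX (homOfLE (inf_le_left : A ⊓ U ≤ A))) :=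
      cokernel.π_desc _ _ _
    exact congrArg (fun t => CohFree.evalGen JX B F t)
      ((Category.assoc _ _ _).symm.trans ((congrArg (fun t => t ≫ φ) hπ).trans (Category.assoc _ _ _))))

/-- `Γ_Z` of a short exact sequence is left exact. -/
theorem exact_map_and_mono {S : ShortComplex (CohTop.Ab X)} (hS : S.ShortExact) :
    (S.map (LocCohZ.sectSuppF U)).Exact ∧ Mono ((LocCohZ.sectSuppF U).map S.f) := by
  haveI := hS.mono_f
  have hinj : ∀ V : Opens X, Function.Injective (((LocCohZ.sectSuppF U).map S.f).hom.app (op V)).hom := by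
    intro V a b hab
    apply incl_injective U
    apply app_injective_of_mono S.f V
    rw [← incl_map, ← incl_map]
    exact congrArg _ hab
  haveI hmono : Mono ((LocCohZ.sectSuppF U).map S.f) := by
    haveI : Mono ((LocCohZ.sectSuppF U).map S.f).hom := by
      haveI : ∀ V, Mono (((LocCohZ.sectSuppF U).map S.f).hom.app V) := fun V =>
        (AddCommGrpCat.mono_iff_injective _).2 (hinj V.unop)
      exact NatTrans.mono_of_mono_app _
    exact (sheafToPresheaf JX AddCommGrpCat.{u}).mono_of_mono_map this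
  refine ⟨?_, hmono⟩
  let G := LocCohZ.sectSuppF U
  let l : G.obj S.X₁ ⟶ kernel (G.map S.g) :=
    kernel.lift (G.map S.g) (G.map S.f) (by rw [← G.map_comp, S.zero, G.map_zero])
  have hl : l ≫ kernel.ι (G.map S.g) = G.map S.f := kernel.lift_ι _ _ _
  haveI : IsIso l := by
    haveI : IsIso l.hom := by
      haveI : ∀ V, IsIso (l.hom.app V) := by
        intro V
        refine (ConcreteCategory.isIso_iff_bijective _).2 ⟨fun a b hab => hinj V.unop ?_, fun t => ?_⟩
        · rw [← hl]
          exact congrArg ((kernel.ι (G.map S.g)).hom.app V).hom hab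
        · let s := incl U S.X₂ V.unop (((kernel.ι (G.map S.g)).hom.app V).hom t)
          have h0 : ((G.map S.g).hom.app V).hom (((kernel.ι (G.map S.g)).hom.app V).hom t) = 0 :=
            (exists_kernel_section_iff _ V.unop _).1 ⟨t, rfl⟩
          obtain ⟨a, ha⟩ := exists_section_of_shortExact hS V.unop s (by
            refine (incl_map U S.g V.unop _).symm.trans ?_
            exact (congrArg (incl U S.X₃ V.unop) h0).trans (map_zero _))
          have hz : S.X₁.obj.map (homOfLE (inf_le_left : V.unop ⊓ U ≤ V.unop)).op a = 0 := by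
            apply app_injective_of_mono S.f (V.unop ⊓ U)
            refine (ConcreteCategory.congr_hom (S.f.hom.naturality (homOfLE (inf_le_left : V.unop ⊓ U ≤ V.unop)).op) a).trans ?_
            refine ((congrArg _ ha).trans ((range_incl U S.X₂ V.unop s).1 ⟨_, rfl⟩)).trans ?_
            exact (map_zero _).symm
          obtain ⟨a', ha'⟩ := (range_incl U S.X₁ V.unop a).2 hz
          refine ⟨a', kernel_ι_injective _ _ (incl_injective U S.X₂ V.unop ?_)⟩
          refine Eq.trans (congrArg (fun m => incl U S.X₂ V.unop ((m.hom.app V).hom a')) hl) ?_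
          refine (incl_map U S.f V.unop a').trans ?_
          rw [ha']
          exact ha
      exact NatIso.isIso_of_isIso_app _
    haveI : IsIso ((sheafToPresheaf JX AddCommGrpCat.{u}).map l) := by assumption
    exact isIso_of_reflects_iso l (sheafToPresheaf JX AddCommGrpCat.{u})
  refine ShortComplex.exact_of_f_is_kernel _ ?_
  exact IsKernel.isoKernel _ (G.map S.f) (kernelIsKernel (G.map S.g)) (asIso l) hl

theorem preservesFiniteLimits_sectSuppF : PreservesFiniteLimits (LocCohZ.sectSuppF U) :=
  (Functor.preservesFiniteLimits_iff_forall_exact_map_and_mono _).2 fun _ hS => exact_map_and_mono U hS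

theorem isFlasque_sectSuppF (F : CohTop.Ab X) [hF : TopCat.Sheaf.IsFlasque F] :
    TopCat.Sheaf.IsFlasque ((LocCohZ.sectSuppF U).obj F) := by
  have surj : ∀ {A B : Opens X} (h : A ≤ B) (t : ((LocCohZ.sectSuppF U).obj F).obj.obj (op A)),
      ∃ s, ((LocCohZ.sectSuppF U).obj F).obj.map (homOfLE h).op s = t := by
    intro A B h t
    -- glue `t` on `A` with `0` on `B ∩ U`, then extend
    let Uf : ULift.{u} Bool → Opens X := fun i => if i.down then A else B ⊓ U
    have ht := (range_incl U F A _).1 ⟨t, rfl⟩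
    let sf : ∀ i, F.obj.obj (op (Uf i)) := fun i =>
      match i with
      | ⟨true⟩ => incl U F A t
      | ⟨false⟩ => 0
    have hcomp : ∀ (z : F.obj.obj (op (A ⊓ (B ⊓ U)))),
        z = F.obj.map (homOfLE (inf_le_left : A ⊓ (B ⊓ U) ≤ A)).op (incl U F A t) → z = 0 := by
      rintro z rfl
      have e := res_res F (inf_le_left : A ⊓ U ≤ A) (inf_le_inf_left A inf_le_right : A ⊓ (B ⊓ U) ≤ A ⊓ U) (incl U F A t)
      rw [ht, map_zero] at e
      exact e.symm
    have comp : TopCat.Presheaf.IsCompatible F.obj Uf sf := by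
      rintro ⟨_ | _⟩ ⟨_ | _⟩
      · rfl
      · refine (map_zero _).trans ?_
        refine Eq.symm ((res_eq_zero_iff F (inf_comm A (B ⊓ U)).le (inf_comm A (B ⊓ U)).ge _).1 ?_)
        refine hcomp _ ?_
        exact res_res F _ _ _
      · refine Eq.trans ?_ (map_zero _).symm
        exact hcomp _ rfl
      · rfl
    obtain ⟨g, hg, -⟩ := TopCat.Sheaf.existsUnique_gluing' F Uf (A ⊔ (B ⊓ U))
      (fun i => homOfLE (by
        rcases i with ⟨_ | _⟩
        · exact le_sup_right
        · exact le_sup_left))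
      (sup_le (le_iSup_of_le ⟨true⟩ le_rfl) (le_iSup_of_le ⟨false⟩ le_rfl)) sf comp
    obtain ⟨s, hs⟩ := (AddCommGrpCat.epi_iff_surjective _).1
      (hF.epi (homOfLE (sup_le h inf_le_left : A ⊔ (B ⊓ U) ≤ B)).op) g
    obtain ⟨s', hs'⟩ := (range_incl U F B s).2 (by
      have := hg ⟨false⟩
      rw [← hs] at this
      exact (res_res F _ _ s).symm.trans this)
    refine ⟨s', incl_injective U F A ?_⟩
    refine (incl_res U F (homOfLE h) s').trans ?_
    rw [hs']
    have := hg ⟨true⟩
    rw [← hs] at this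
    exact (res_res F _ _ s).symm.trans this
  constructor
  intro A B i
  rw [AddCommGrpCat.epi_iff_surjective]
  intro t
  obtain ⟨s, hs⟩ := surj (leOfHom i.unop) t
  exact ⟨s, hs⟩

end Groth.Agent.LcSh80

end
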