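import Groth.Agent.LcSh80.Derived
import Groth.Agent.SiteBase.DerivedKernel
import Groth.Agent.SiteBase.DerivedPrecomp
import Groth.Agent.SiteBase.ExtByZero
import Groth.Agent.SiteBase.SuppInj
import Mathlib.Topology.Sheaves.Stalks

/-!
# `ℋ^{i+1}_Z = R^i j_* j⁻¹`, right adjoint of direct image from the closed complement
-/

set_option autoImplicit false
set_option linter.style.haveILetI false

universe u

open CategoryTheory CategoryTheory.Limits Opposite TopologicalSpace TopCat Topology

noncomputable section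

namespace Groth.Agent.LcSh80

open ClosedEmb (pAdj)

variable {X : TopCat.{u}} (U : Opens X)

local notation "JX" => Opens.grothendieckTopology X

/-- `F ↦ j_* j⁻¹ F`. -/
abbrev jj : CohTop.Ab X ⥤ CohTop.Ab X := CohTop.pull (CohCx.incl U) ⋙ CohTop.push (CohCx.incl U)

/-- The inclusion `Γ_Z F ⟶ F`. -/
def inclN : LocCohZ.sectSuppF U ⟶ 𝟭 (CohTop.Ab X) where
  app F := kernel.ι ((pAdj (CohCx.incl U)).unit.app F)
  naturality _ _ _ := kernel.lift_ι _ _ _

theorem unit_app_bijective (F : CohTop.Ab X) (W : Opens X) (hW : W ≤ U) :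
    Function.Bijective (((pAdj (CohCx.incl U)).unit.app F).hom.app (op W)).hom := by
  haveI : ∀ x : W, IsIso ((TopCat.Presheaf.stalkFunctor AddCommGrpCat.{u} (x : X)).map
      ((pAdj (CohCx.incl U)).unit.app F).hom) := fun x =>
    ClosedEmb.isIso_stalk_unit (ClosedEmb.isInducing_incl U) F ⟨x, hW x.2⟩
  haveI := TopCat.Presheaf.app_isIso_of_stalkFunctor_map_iso
    (F := F) (G := (jj U).obj F) ((pAdj (CohCx.incl U)).unit.app F) W
  exact ConcreteCategory.bijective_of_isIso (((pAdj (CohCx.incl U)).unit.app F).hom.app (op W))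

theorem epi_unit_of_flasque (F : CohTop.Ab X) [hF : TopCat.Sheaf.IsFlasque F] :
    Epi ((pAdj (CohCx.incl U)).unit.app F) := by
  let η := (pAdj (CohCx.incl U)).unit.app F
  refine (TopCat.Sheaf.isLocallySurjective_iff_epi _).1
    ((TopCat.Presheaf.isLocallySurjective_iff _).2 fun V t y hy => ?_)
  refine ⟨V, le_rfl, ?_, hy⟩
  obtain ⟨s₀, hs₀⟩ := (unit_app_bijective U F (V ⊓ U) inf_le_right).2
    (((jj U).obj F).obj.map (homOfLE (inf_le_left : V ⊓ U ≤ V)).op t)
  obtain ⟨s, hs⟩ := (AddCommGrpCat.epi_iff_surjective _).1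
    (hF.epi (homOfLE (inf_le_left : V ⊓ U ≤ V)).op) s₀
  refine ⟨s, ?_⟩
  let G := (CohTop.pull (CohCx.incl U)).obj F
  have key : ∀ a b : ((jj U).obj F).obj.obj (op V),
      ((jj U).obj F).obj.map (homOfLE (inf_le_left : V ⊓ U ≤ V)).op a =
        ((jj U).obj F).obj.map (homOfLE (inf_le_left : V ⊓ U ≤ V)).op b → a = b := by
    intro a b hab
    rw [← sub_eq_zero]
    refine (SuppFamLib.res_eq_zero_iff G
      (show (Opens.map (CohCx.incl U)).obj (V ⊓ U) ≤ (Opens.map (CohCx.incl U)).obj V from fun z hz => hz.1)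
      (fun z hz => ⟨hz, z.2⟩) (a - b)).1 ?_
    exact (map_sub (((jj U).obj F).obj.map (homOfLE (inf_le_left : V ⊓ U ≤ V)).op).hom a b).trans (sub_eq_zero.2 hab)
  refine (key _ t ?_).trans ?_
  · refine (ConcreteCategory.congr_hom (η.hom.naturality (homOfLE (inf_le_left : V ⊓ U ≤ V)).op) s).symm.trans ?_
    exact (congrArg (fun z => (η.hom.app (op (V ⊓ U))).hom z) hs).trans hs₀
  · simp only [TopCat.Presheaf.restrictOpen, TopCat.Presheaf.restrict]
    rw [show (homOfLE (le_rfl : V ≤ V)).op = 𝟙 (op V) from rfl, CategoryTheory.Functor.map_id]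
    rfl

theorem preservesFiniteLimits_jj : PreservesFiniteLimits (jj U) :=
  haveI : (CohTop.push (CohCx.incl U)).IsRightAdjoint := (pAdj (CohCx.incl U)).isRightAdjoint
  haveI := SiteBase.preservesFiniteLimits_pull (CohCx.incl U)
  comp_preservesFiniteLimits _ _

instance additive_jj : (jj U).Additive := by
  haveI : (CohTop.pull (CohCx.incl U)).Additive := (pAdj (CohCx.incl U)).left_adjoint_additive
  exact inferInstanceAs (CohTop.pull (CohCx.incl U) ⋙ CohTop.push (CohCx.incl U)).Additive

theorem nonempty_HZsh_one_iso :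
    Nonempty (LocCohZ.HZsh U 1 ≅ cokernel (pAdj (CohCx.incl U)).unit) := by
  haveI := preservesFiniteLimits_sectSuppF U
  haveI := preservesFiniteLimits_jj U
  refine SiteBase.nonempty_rightDerived_one_iso (inclN U) (pAdj (CohCx.incl U)).unit
    (fun F => kernel.condition _) (fun F => kernelIsKernel _) fun I hI => ?_
  haveI := hI
  haveI := SiteBase.isFlasque_of_injective I
  exact epi_unit_of_flasque U I

theorem nonempty_HZsh_succ_iso (i : ℕ) :
    Nonempty (LocCohZ.HZsh U (i + 2) ≅ (jj U).rightDerived (i + 1)) := by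
  haveI := preservesFiniteLimits_sectSuppF U
  haveI := preservesFiniteLimits_jj U
  refine SiteBase.nonempty_rightDerived_succ_iso (inclN U) (pAdj (CohCx.incl U)).unit
    (fun F => kernel.condition _) (fun F => kernelIsKernel _) (fun I hI => ?_) i
  haveI := hI
  haveI := SiteBase.isFlasque_of_injective I
  exact epi_unit_of_flasque U I

/-- The inverse image along an open inclusion is restriction. -/
def pullIsoRestr : CohTop.pull (CohCx.incl U) ≅ CohTop.restrFunctor U :=
  U.isOpenEmbedding.sheafPullbackIso AddCommGrpCat.{u}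

instance preservesFiniteLimits_restr : PreservesFiniteLimits (CohTop.restrFunctor U) :=
  haveI := SiteBase.preservesFiniteLimits_pull (CohCx.incl U)
  preservesFiniteLimits_of_natIso (pullIsoRestr U)

instance preservesFiniteColimits_restr : PreservesFiniteColimits (CohTop.restrFunctor U) :=
  haveI : (CohTop.pull (CohCx.incl U)).IsLeftAdjoint := (pAdj (CohCx.incl U)).isLeftAdjoint
  haveI : PreservesFiniteColimits (CohTop.pull (CohCx.incl U)) := inferInstance
  preservesFiniteColimits_of_natIso (pullIsoRestr U)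

instance preservesInjectives_restr : (CohTop.restrFunctor U).PreservesInjectiveObjects :=
  haveI := ExtByZero.preservesFiniteLimits_ext0 U
  ⟨fun {I} hI => (ExtByZero.adj U).map_injective I hI⟩

instance additive_push {A B : TopCat.{u}} (f : A ⟶ B) : (CohTop.push f).Additive where

/-- `R^q` of restriction followed by direct image. -/
def restrPushDerivedIso {Y : TopCat.{u}} (f : TopCat.of U ⟶ Y) [(CohTop.push f).Additive] (q : ℕ) :
    (CohTop.restrFunctor U ⋙ CohTop.push f).rightDerived q ≅
      CohTop.restrFunctor U ⋙ (CohTop.push f).rightDerived q :=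
  SiteBase.rightDerivedPrecompIso (CohTop.restrFunctor U) (CohTop.push f) q

theorem nonempty_jjDerived_iso (q : ℕ) :
    Nonempty ((jj U).rightDerived q ≅ CohTop.pull (CohCx.incl U) ⋙ CohTop.Rpush (CohCx.incl U) q) :=
  ⟨SiteBase.rightDerivedCongr (Functor.isoWhiskerRight (pullIsoRestr U) _) q ≪≫
    restrPushDerivedIso U (CohCx.incl U) q ≪≫ (Functor.isoWhiskerRight (pullIsoRestr U) _).symm⟩

theorem nonempty_RpushOn_id_iso (q : ℕ) :
    Nonempty (CohCx.RpushOn (𝟙 X) U q ≅ CohTop.restrFunctor U ⋙ CohTop.Rpush (CohCx.incl U) q) :=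
  ⟨SiteBase.rightDerivedCongr
      (eqToIso (by rw [Category.comp_id] : CohTop.restrFunctor U ⋙ CohTop.push (CohCx.incl U ≫ 𝟙 X) =
        CohTop.restrFunctor U ⋙ CohTop.push (CohCx.incl U))) q ≪≫
    restrPushDerivedIso U (CohCx.incl U) q⟩

theorem nonempty_adjunction :
    Nonempty (CohTop.push (CohCx.inclCompl U) ⊣ LocCohZ.sectSuppF U ⋙ CohTop.pull (CohCx.inclCompl U)) := by
  let i := CohCx.inclCompl U
  have hi := ClosedEmb.isClosedEmbedding_inclCompl U
  haveI := ClosedEmb.push_full hi.isInducing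
  haveI := ClosedEmb.push_faithful hi.isInducing
  haveI hu : ∀ F : CohTop.Ab X, IsIso ((pAdj i).unit.app ((LocCohZ.sectSuppF U).obj F)) := fun F =>
    ClosedEmb.isIso_unit hi _ fun x hx =>
      ClosedEmb.isZero_stalk_sectSupp U F x ((ClosedEmb.not_range_inclCompl_iff U x).1 hx)
  let u := fun F : CohTop.Ab X => asIso ((pAdj i).unit.app ((LocCohZ.sectSuppF U).obj F))
  have hvan : ∀ (G : CohTop.Ab (TopCat.of ((U : Set X)ᶜ : Set X))) (F : CohTop.Ab X)
      (φ : (CohTop.push i).obj G ⟶ F), φ ≫ (pAdj (CohCx.incl U)).unit.app F = 0 := fun G F φ =>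
    ((pAdj (CohCx.incl U)).homEquiv _ _).symm.injective ((ClosedEmb.isZero_pull_push U G).eq_of_src _ _)
  let e : ∀ (G : CohTop.Ab (TopCat.of ((U : Set X)ᶜ : Set X))) (F : CohTop.Ab X),
      ((CohTop.push i).obj G ⟶ F) ≃ (G ⟶ (LocCohZ.sectSuppF U ⋙ CohTop.pull i).obj F) := fun G F =>
    { toFun := fun φ => (CohTop.push i).preimage (kernel.lift _ φ (hvan G F φ) ≫ (u F).hom)
      invFun := fun ψ => ((CohTop.push i).map ψ ≫ (u F).inv) ≫ (inclN U).app F
      left_inv := fun φ => by
        refine (congrArg (fun t => (t ≫ (u F).inv) ≫ (inclN U).app F) ((CohTop.push i).map_preimage _)).trans ?_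
        refine (congrArg (fun t => t ≫ (inclN U).app F) ((Category.assoc _ _ _).trans
          ((congrArg (fun t => kernel.lift _ φ (hvan G F φ) ≫ t) (u F).hom_inv_id).trans (Category.comp_id _)))).trans ?_
        exact kernel.lift_ι _ _ _
      right_inv := fun ψ => by
        apply (CohTop.push i).map_injective
        refine ((CohTop.push i).map_preimage _).trans ?_
        refine (congrArg (fun t => t ≫ (u F).hom) ?_).trans ((Category.assoc _ _ _).trans
          ((congrArg (fun t => (CohTop.push i).map ψ ≫ t) (u F).inv_hom_id).trans (Category.comp_id _)))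
        exact (cancel_mono (kernel.ι ((pAdj (CohCx.incl U)).unit.app F))).1 (kernel.lift_ι _ _ _) }
  refine ⟨Adjunction.mkOfHomEquiv { homEquiv := e, homEquiv_naturality_left_symm := ?_, homEquiv_naturality_right := ?_ }⟩
  · intro G' G F f g
    show ((CohTop.push i).map (f ≫ g) ≫ (u F).inv) ≫ (inclN U).app F =
      (CohTop.push i).map f ≫ ((CohTop.push i).map g ≫ (u F).inv) ≫ (inclN U).app F
    rw [Functor.map_comp]
    simp only [Category.assoc]
  · intro G F F' f g
    apply (CohTop.push i).map_injective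
    rw [Functor.map_comp]
    show (CohTop.push i).map ((CohTop.push i).preimage _) =
      (CohTop.push i).map ((CohTop.push i).preimage _) ≫ (CohTop.push i).map ((CohTop.pull i).map ((LocCohZ.sectSuppF U).map g))
    refine ((CohTop.push i).map_preimage _).trans (Eq.trans ?_ (congrArg (fun t => t ≫ _) ((CohTop.push i).map_preimage _)).symm)
    have hn : (LocCohZ.sectSuppF U).map g ≫ (u F').hom =
        (u F).hom ≫ (CohTop.push i).map ((CohTop.pull i).map ((LocCohZ.sectSuppF U).map g)) :=
      (pAdj i).unit.naturality ((LocCohZ.sectSuppF U).map g)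
    refine Eq.trans ?_ (Category.assoc _ _ _).symm
    refine Eq.trans ?_ (congrArg (fun t => kernel.lift _ f (hvan G F f) ≫ t) hn)
    refine Eq.trans ?_ (Category.assoc _ _ _)
    refine congrArg (fun t => t ≫ (u F').hom) ?_
    refine (cancel_mono (kernel.ι ((pAdj (CohCx.incl U)).unit.app F'))).1 ?_
    refine (kernel.lift_ι _ _ _).trans ?_
    refine Eq.trans ?_ (Category.assoc _ _ _).symm
    refine Eq.trans ?_ (congrArg (fun t => kernel.lift _ f (hvan G F f) ≫ t) ((inclN U).naturality g).symm)
    refine Eq.trans ?_ (Category.assoc _ _ _)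
    exact congrArg (fun t => t ≫ g) (kernel.lift_ι _ f (hvan G F f)).symm

end Groth.Agent.LcSh80

end
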