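import Groth.Agent.LcSh80.Derived
import Groth.Agent.SiteBase.Kill

/-!
# The long exact sequence of cohomology with supports, and its consequences
-/

set_option autoImplicit false
set_option linter.style.haveILetI false

universe u

open CategoryTheory CategoryTheory.Limits Opposite TopologicalSpace TopCat Topology Abelian

noncomputable section

namespace Groth.Agent.LcSh80

variable {X : TopCat.{u}} {F : CohTop.Ab X} {W V : Opens X} {h : W ≤ V}

local notation "JX" => Opens.grothendieckTopology X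

theorem pre_pre {C : Type*} [Category C] [Abelian C] [HasExt.{u} C] {A B D E : C} (f : A ⟶ B) (g : B ⟶ D)
    (k : A ⟶ D) (hk : f ≫ g = k) {i : ℕ} (y : Ext.{u} D E i) :
    (Ext.mk₀ f).comp ((Ext.mk₀ g).comp y (zero_add i)) (zero_add i) = (Ext.mk₀ k).comp y (zero_add i) := by
  rw [Ext.mk₀_comp_mk₀_assoc, hk]

theorem pre_extClass {C : Type*} [Category C] [Abelian C] [HasExt.{u} C] {S S' : ShortComplex C}
    (hS : S.ShortExact) (hS' : S'.ShortExact) (φ : S' ⟶ S) {E : C} {i : ℕ} (w : Ext.{u} S.X₁ E i) :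
    (Ext.mk₀ φ.τ₃).comp (hS.extClass.comp w (Nat.add_comm 1 i)) (zero_add (i + 1)) =
      hS'.extClass.comp ((Ext.mk₀ φ.τ₁).comp w (zero_add i)) (Nat.add_comm 1 i) := by
  rw [← Ext.comp_assoc (a₁₂ := 1) (Ext.mk₀ φ.τ₃) _ _ (zero_add 1) (Nat.add_comm 1 i) (by omega),
    ← hS'.extClass_naturality hS φ,
    Ext.comp_assoc (a₁₂ := 1) (a₂₃ := i) _ _ _ (add_zero 1) (zero_add i) (by omega)]

theorem res_eq_comp (i : ℕ) (h : W ≤ V) (x : CohTop.HU F i V) :
    CohTop.res F i h x =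
      (Ext.mk₀ (CohCx.freeSheafMap JX (homOfLE h))).comp (x : Ext (CohCx.freeSheaf JX V) F i) (zero_add i) :=
  rfl

theorem res_eq_zero_iff_mem_range_toHU (i : ℕ) (x : CohTop.HU F i V) :
    CohTop.res F i h x = 0 ↔ ∃ y, LocCohZ.toHU F i h y = x := by
  constructor
  · intro hx
    exact Ext.contravariant_sequence_exact₂ (LocCohZ.zqSeq_shortExact h) F x hx
  · rintro ⟨y, rfl⟩
    show (Ext.mk₀ (LocCohZ.zqSeq h).f).comp ((Ext.mk₀ (LocCohZ.zqSeq h).g).comp y (zero_add i)) (zero_add i) = 0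
    exact (pre_pre _ _ 0 (LocCohZ.zqSeq h).zero y).trans ((congrArg (fun z => Ext.comp z y (zero_add i)) (Ext.mk₀_zero _ _)).trans (Ext.zero_comp _ _ _ _ _))

theorem delta_eq_zero_iff_mem_range_res (i : ℕ) (w : CohTop.HU F i W) :
    LocCohZ.delta F i h w = 0 ↔ ∃ x, CohTop.res F i h x = w := by
  constructor
  · intro hw
    exact Ext.contravariant_sequence_exact₁ (LocCohZ.zqSeq_shortExact h) F w (Nat.add_comm 1 i) hw
  · rintro ⟨x, rfl⟩
    exact (LocCohZ.zqSeq_shortExact h).extClass_comp_assoc (h := Nat.add_comm 1 i) _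

theorem toHU_eq_zero_iff_mem_range_delta (i : ℕ) (y : LocCohZ.HZ F (i + 1) h) :
    LocCohZ.toHU F (i + 1) h y = 0 ↔ ∃ w, LocCohZ.delta F i h w = y := by
  constructor
  · intro hy
    exact Ext.contravariant_sequence_exact₃ (LocCohZ.zqSeq_shortExact h) F y hy (Nat.add_comm 1 i)
  · rintro ⟨w, rfl⟩
    exact (LocCohZ.zqSeq_shortExact h).comp_extClass_assoc _ (Nat.add_comm 1 i)

theorem toHU_zero_injective : Function.Injective (LocCohZ.toHU F 0 h) := by
  rw [injective_iff_map_eq_zero]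
  intro y hy
  obtain ⟨φ, rfl⟩ := (Ext.mk₀_bijective _ _).2 y
  have e : cokernel.π (CohCx.freeSheafMap JX (homOfLE h)) ≫ φ = 0 :=
    (Ext.mk₀_bijective _ _).1 (((Ext.mk₀_comp_mk₀ _ φ).symm.trans hy).trans (Ext.mk₀_zero _ _).symm)
  have hφ : φ = 0 := (cancel_epi (cokernel.π (CohCx.freeSheafMap JX (homOfLE h)))).1 (e.trans comp_zero.symm)
  exact (congrArg Ext.mk₀ hφ).trans (Ext.mk₀_zero _ _)

theorem subsingleton_HZ_iff_res (N : ℕ) :
    (∀ i, i ≤ N → Subsingleton (LocCohZ.HZ F i h)) ↔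
      (∀ i, i < N → Function.Bijective (CohTop.res F i h)) ∧ Function.Injective (CohTop.res F N h) := by
  constructor
  · intro hs
    have inj : ∀ i, i ≤ N → Function.Injective (CohTop.res F i h) := fun i hi => by
      rw [injective_iff_map_eq_zero]
      intro x hx
      obtain ⟨y, rfl⟩ := (res_eq_zero_iff_mem_range_toHU i x).1 hx
      rw [@Subsingleton.elim _ (hs i hi) y 0, map_zero]
    exact ⟨fun i hi => ⟨inj i hi.le, fun w =>
      (delta_eq_zero_iff_mem_range_res i w).1 (@Subsingleton.elim _ (hs (i + 1) hi) _ _)⟩, inj N le_rfl⟩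
  · rintro ⟨hb, hN⟩ i hi
    refine subsingleton_of_forall_eq 0 fun y => ?_
    have inj : Function.Injective (CohTop.res F i h) := by
      rcases hi.lt_or_eq with hlt | rfl
      exacts [(hb i hlt).1, hN]
    have h0 : LocCohZ.toHU F i h y = 0 := inj
      (((res_eq_zero_iff_mem_range_toHU i _).2 ⟨y, rfl⟩).trans (map_zero _).symm)
    rcases i with _ | i
    · exact toHU_zero_injective (h0.trans (map_zero _).symm)
    · obtain ⟨w, rfl⟩ := (toHU_eq_zero_iff_mem_range_delta i y).1 h0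
      obtain ⟨x, rfl⟩ := (hb i hi).2 w
      exact (delta_eq_zero_iff_mem_range_res i _).2 ⟨x, rfl⟩

theorem delta_resZ (i : ℕ) {W' V' : Opens X} (h' : W' ≤ V') (hW : W' ≤ W) (hV : V' ≤ V) (w : CohTop.HU F i W) :
    LocCohZ.resZ F (i + 1) h h' hW hV (LocCohZ.delta F i h w) =
      LocCohZ.delta F i h' (CohTop.res F i hW w) := by
  let φ : LocCohZ.zqSeq h' ⟶ LocCohZ.zqSeq h :=
    { τ₁ := CohCx.freeSheafMap JX (homOfLE hW)
      τ₂ := CohCx.freeSheafMap JX (homOfLE hV)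
      τ₃ := LocCohZ.zqMap h h' hW hV
      comm₁₂ := by
        refine (CohFree.freeSheafMap_comp _ _ _).symm.trans (Eq.trans ?_ (CohFree.freeSheafMap_comp _ _ _))
        rfl
      comm₂₃ := (cokernel.π_desc _ _ _).symm }
  exact pre_extClass (LocCohZ.zqSeq_shortExact h) (LocCohZ.zqSeq_shortExact h') φ
    (w : Ext (LocCohZ.zqSeq h).X₁ F i)

theorem exists_res_eq_zero (F : CohTop.Ab X) (n : ℕ) (V : Opens X) (ξ : CohTop.HU F (n + 1) V) (p : X) (hp : p ∈ V) :
    ∃ (W : Opens X) (hW : W ≤ V), p ∈ W ∧ CohTop.res F (n + 1) hW ξ = 0 := by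
  obtain ⟨S, hS, hres⟩ := SiteBase.exists_cover_res_eq_zero (J := JX) F V n ξ
  obtain ⟨W, f, hf, hpW⟩ := hS p hp
  exact ⟨W, leOfHom f, hpW, hres W f hf⟩

theorem resZ_toHU (i : ℕ) {W' V' : Opens X} (h' : W' ≤ V') (hW : W' ≤ W) (hV : V' ≤ V) (y : LocCohZ.HZ F i h) :
    LocCohZ.toHU F i h' (LocCohZ.resZ F i h h' hW hV y) = CohTop.res F i hV (LocCohZ.toHU F i h y) := by
  show (Ext.mk₀ (LocCohZ.zqSeq h').g).comp ((Ext.mk₀ (LocCohZ.zqMap h h' hW hV)).comp y (zero_add i)) (zero_add i) =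
    (Ext.mk₀ (CohCx.freeSheafMap JX (homOfLE hV))).comp ((Ext.mk₀ (LocCohZ.zqSeq h).g).comp y (zero_add i)) (zero_add i)
  exact (pre_pre _ _ _ (cokernel.π_desc _ _ _) y).trans (pre_pre _ _ _ rfl y).symm

theorem isZero_HZsh_of_bijective (F : CohTop.Ab X) (U : Opens X) (N : ℕ) (hN : 0 < N)
    (hb : ∀ (V : Opens X) (i : ℕ), i < N → Function.Bijective (CohTop.res F i (inf_le_left : V ⊓ U ≤ V))) :
    ∀ i, i ≤ N → IsZero ((LocCohZ.HZsh U i).obj F) := by
  intro i hi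
  rcases hi.lt_or_eq with hlt | rfl
  · exact isZero_HZsh_of_subsingleton U F i fun V =>
      ((subsingleton_HZ_iff_res i).2 ⟨fun j hj => hb V j (hj.trans hlt), (hb V i hlt).1⟩) i le_rfl
  · obtain ⟨n, rfl⟩ : ∃ n, i = n + 1 := ⟨i - 1, by omega⟩
    refine isZero_HZsh_of_locally_zero U F (n + 1) fun V x p hp => ?_
    obtain ⟨W, hW, hpW, h0⟩ := exists_res_eq_zero F n V (LocCohZ.toHU F (n + 1) _ x) p hp
    refine ⟨W, hW, hpW, ?_⟩
    have := (resZ_toHU (n + 1) (inf_le_left : W ⊓ U ≤ W) (inf_le_inf_right U hW) hW x).trans h0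
    obtain ⟨w, hw⟩ := (toHU_eq_zero_iff_mem_range_delta n _).1 this
    rw [← hw]
    obtain ⟨x', rfl⟩ := (hb W n (Nat.lt_succ_self n)).2 w
    exact (delta_eq_zero_iff_mem_range_res n _).2 ⟨x', rfl⟩

end Groth.Agent.LcSh80

end
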