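import Groth.Agent.LcSh80.Scheme
import Groth.Agent.LcSh80.Long
import Groth.Agent.LC.DepthLoc
import Groth.Agent.QCoh.Stalk
import Groth.Agent.Alg6.LocLoc
import Groth.Agent.QCoh.Support

/-!
# Vanishing of local cohomology sheaves and depth along the support
-/

set_option autoImplicit false
set_option linter.style.haveILetI false

universe u

open CategoryTheory CategoryTheory.Limits Opposite TopologicalSpace AlgebraicGeometry

noncomputable section

namespace Groth.Agent.LcSh80

variable {X : Scheme.{u}} [IsLocallyNoetherian X] {M : X.Modules}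

theorem depth_stalk_eq' {F : X.Modules} (hF : Coh.IsQCoh F) {V : X.Opens} (hV : IsAffineOpen V) {x : X} (hx : x ∈ V) :
    LocCoh.depth (Localization.AtPrime (hV.primeIdealOf ⟨x, hx⟩).asIdeal)
        (LocalizedModule (hV.primeIdealOf ⟨x, hx⟩).asIdeal.primeCompl Γ(F, V)) =
      LocCoh.depth (X.presheaf.stalk x) (F.presheaf.stalk x) := by
  set p := (hV.primeIdealOf ⟨x, hx⟩).asIdeal
  letI := QCoh.stalkAlg (X := X) hx
  letI := QCoh.stalkModule F hx
  haveI := QCoh.isScalarTower_stalk F hx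
  haveI := QCoh.isLocalization_stalk' hV hx
  haveI := QCoh.isLocalizedModule_germLin hF hV hx
  let σ : Localization.AtPrime p ≃ₐ[Γ(X, V)] X.presheaf.stalk x := IsLocalization.algEquiv p.primeCompl _ _
  letI : Module (Localization.AtPrime p) (F.presheaf.stalk x) := Module.compHom _ σ.toRingEquiv.toRingHom
  haveI : IsScalarTower Γ(X, V) (Localization.AtPrime p) (F.presheaf.stalk x) :=
    IsScalarTower.of_algebraMap_smul fun r z => by
      show σ (algebraMap Γ(X, V) (Localization.AtPrime p) r) • z = _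
      rw [σ.commutes, algebraMap_smul]
  let e := (IsLocalizedModule.iso p.primeCompl (QCoh.germLin F hx)).extendScalarsOfIsLocalization
    p.primeCompl (Localization.AtPrime p)
  exact Alg6.depth_eq_of_semilinear σ.toRingEquiv.toRingHom σ.surjective e.toAddEquiv
    (fun r z => map_smul e r z)

theorem exists_mem_primeIdealOf_eq {V : X.Opens} (hV : IsAffineOpen V) (p : PrimeSpectrum Γ(X, V)) :
    ∃ (x : X) (hx : x ∈ V), hV.primeIdealOf ⟨x, hx⟩ = p := by
  have hx : hV.fromSpec.base p ∈ V := by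
    have : hV.fromSpec.base p ∈ Set.range hV.fromSpec.base := Set.mem_range_self p
    rwa [hV.range_fromSpec] at this
  exact ⟨_, hx, hV.fromSpec.isOpenEmbedding.injective (hV.fromSpec_primeIdealOf ⟨_, hx⟩)⟩

theorem subsingleton_HZ_iff_depth (hM : Coh.IsCoh M) {V : X.Opens} (hV : IsAffineOpen V) (U : X.Opens) (n : ℕ) :
    (∀ i, i < n → Subsingleton (LocCohZ.HZ (X := X.carrier) (Coh.toAb M) i (inf_le_left : V ⊓ U ≤ V))) ↔
      ∀ x : X, x ∈ V → x ∉ U → (n : ℕ∞) ≤ LocCoh.depth (X.presheaf.stalk x) (M.presheaf.stalk x) := by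
  haveI : IsNoetherianRing Γ(X, V) := IsLocallyNoetherian.component_noetherian ⟨V, hV⟩
  haveI : Module.Finite Γ(X, V) Γ(M, V) := (QCoh.isCoh_iff.1 hM).2 ⟨V, hV⟩
  obtain ⟨J, hJ, hJe⟩ := exists_chart hM.1 hV U
  have h1 : (∀ i, i < n → Subsingleton (LocCohZ.HZ (X := X.carrier) (Coh.toAb M) i (inf_le_left : V ⊓ U ≤ V))) ↔
      (n : ℕ∞) ≤ LocCoh.idealDepth J Γ(M, V) := by
    refine Iff.trans (forall_congr' fun i => imp_congr_right fun _ => ?_) (LC.le_idealDepth_iff_H J _ n).symm
    exact (hJe i).some.toEquiv.subsingleton_congr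
  refine h1.trans ?_
  rw [LC.idealDepth_eq_iInf_depth]
  simp only [le_iInf_iff]
  constructor
  · intro h x hxV hxU
    have := h (hV.primeIdealOf ⟨x, hxV⟩) (not_not.1 fun hle => hxU ((hJ x hxV).2 hle))
    rwa [depth_stalk_eq' hM.1 hV hxV] at this
  · intro h p hp
    obtain ⟨x, hx, rfl⟩ := exists_mem_primeIdealOf_eq hV p
    rw [depth_stalk_eq' hM.1 hV hx]
    exact h x hx fun hxU => (hJ x hx).1 hxU hp

theorem exists_affine_mem_le {p : X} {V : X.Opens} (hp : p ∈ V) :
    ∃ W : X.Opens, IsAffineOpen W ∧ p ∈ W ∧ W ≤ V := by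
  obtain ⟨W, hW, hpW, hWV⟩ := Opens.isBasis_iff_nbhd.1 X.isBasis_affineOpens hp
  exact ⟨W, hW, hpW, hWV⟩

theorem isZero_HZsh_below_iff (hM : Coh.IsCoh M) (U : X.Opens) (n : ℕ) :
    (∀ i : ℕ, i < n → IsZero ((LocCohZ.HZsh (X := X.carrier) U i).obj (Coh.toAb M))) ↔
      ∀ x : X, x ∉ (U : Set X) →
        (n : ℕ∞) ≤ LocCoh.depth (X.presheaf.stalk x) (M.presheaf.stalk x) := by
  constructor
  · intro h x hx
    obtain ⟨V, hV, hxV, -⟩ := exists_affine_mem_le (X := X) (V := ⊤) (p := x) trivial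
    exact (subsingleton_HZ_iff_depth hM hV U n).1
      (fun i hi => (of_isZero_below (X := X.carrier) U (Coh.toAb M) n h V).1 i hi) x hxV hx
  · intro h i hi
    refine isZero_HZsh_of_locally_zero (X := X.carrier) U _ i fun V ξ p hp => ?_
    obtain ⟨W, hW, hpW, hWV⟩ := exists_affine_mem_le (X := X) hp
    exact ⟨W, hWV, hpW, @Subsingleton.elim _
      ((subsingleton_HZ_iff_depth hM hW U n).2 (fun x _ hx => h x hx) i hi) _ _⟩

section zero

variable {T : TopCat.{u}} (F : CohTop.Ab T)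

theorem huZero_res {A B : Opens T} (h : B ≤ A) (x : CohTop.HU F 0 A) :
    SiteBase.huZero F B (CohTop.res F 0 h x) = F.obj.map (homOfLE h).op (SiteBase.huZero F A x) := by
  obtain ⟨φ, rfl⟩ := (Abelian.Ext.mk₀_bijective _ _).2 x
  refine ((congrArg (SiteBase.huZero F B) (Abelian.Ext.mk₀_comp_mk₀ _ φ)).trans
    (SiteBase.huZero_mk₀ F B _)).trans ?_
  refine Eq.trans ?_ (congrArg (fun s => F.obj.map (homOfLE h).op s) (SiteBase.huZero_mk₀ F A φ)).symm
  exact SiteBase.secEquiv_freeSheafMap _ _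

theorem res_zero_bijective_iff {A B : Opens T} (h : B ≤ A) :
    Function.Bijective (CohTop.res F 0 h) ↔ Function.Bijective (F.obj.map (homOfLE h).op).hom := by
  have e : (F.obj.map (homOfLE h).op).hom ∘ SiteBase.huZero F A = SiteBase.huZero F B ∘ CohTop.res F 0 h :=
    funext fun x => (huZero_res F h x).symm
  constructor
  · intro hb
    refine (Function.Bijective.of_comp_iff _ (SiteBase.huZero F A).bijective).1 ?_
    rw [e]
    exact (SiteBase.huZero F B).bijective.comp hb
  · intro hb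
    refine (Function.Bijective.of_comp_iff' (SiteBase.huZero F B).bijective _).1 ?_
    rw [← e]
    exact hb.comp (SiteBase.huZero F A).bijective

end zero

theorem depth_ge_two_iff (hM : Coh.IsCoh M) (U : X.Opens) :
    (∀ x : X, x ∉ (U : Set X) → (2 : ℕ∞) ≤ LocCoh.depth (X.presheaf.stalk x) (M.presheaf.stalk x)) ↔
      ∀ V : X.Opens, Function.Bijective (M.val.map (homOfLE (inf_le_left : V ⊓ U ≤ V)).op).hom := by
  refine (isZero_HZsh_below_iff hM U 2).symm.trans ⟨fun h V => ?_, fun h i hi => ?_⟩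
  · refine (res_zero_bijective_iff (T := X.carrier) (Coh.toAb M) (inf_le_left : V ⊓ U ≤ V)).1 ?_
    exact ((subsingleton_HZ_iff_res 1).1 fun i hi =>
      (of_isZero_below (X := X.carrier) U (Coh.toAb M) 2 h V).1 i (by omega)).1 0 zero_lt_one
  · refine isZero_HZsh_of_bijective (X := X.carrier) (Coh.toAb M) U 1 one_pos (fun V j hj => ?_) i (by omega)
    obtain rfl : j = 0 := by omega
    exact (res_zero_bijective_iff (T := X.carrier) (Coh.toAb M) (inf_le_left : V ⊓ U ≤ V)).2 (h V)

end Groth.Agent.LcSh80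

end
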