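import Groth.Agent.LcSh80.Basic

/-!
# Local cohomology sheaves and cohomology with supports over opens
-/

set_option autoImplicit false
set_option linter.style.haveILetI false

universe u v w

open CategoryTheory CategoryTheory.Limits Opposite TopologicalSpace TopCat Topology Abelian

noncomputable section

namespace Groth.Agent.LcSh80

open SuppFamLib (res_res app_injective_of_mono exists_section_of_shortExact)

variable {X : TopCat.{u}} (U : Opens X)

local notation "JX" => Opens.grothendieckTopology X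

instance additive_sheafToPresheaf' : (sheafToPresheaf JX AddCommGrpCat.{u}).Additive where

instance additive_presheafToSheaf' : (presheafToSheaf JX AddCommGrpCat.{u}).Additive :=
  (sheafificationAdjunction JX AddCommGrpCat.{u}).left_adjoint_additive

/-- Sheafifying the underlying presheaf changes nothing. -/
def sheafifyIso : LocCohZ.sectSuppF U ≅
    (LocCohZ.sectSuppF U ⋙ sheafToPresheaf JX AddCommGrpCat.{u}) ⋙ presheafToSheaf JX AddCommGrpCat.{u} :=
  (Functor.rightUnitor _).symm ≪≫ Functor.isoWhiskerLeft _ (asIso (sheafificationAdjunction JX AddCommGrpCat.{u}).counit).symm ≪≫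
    (Functor.associator _ _ _).symm

/-- The presheaf `V ↦ H^q_{Z ∩ V}(V, F)`, as a functor of `F`. -/
abbrev hzPre (q : ℕ) : CohTop.Ab X ⥤ (Opens X)ᵒᵖ ⥤ AddCommGrpCat.{u} :=
  SiteBase.HomPres.extPsh (zqP U) q

/-- `ℋ^q_Z` is the sheafified presheaf of cohomology with supports. -/
theorem nonempty_HZsh_iso (q : ℕ) :
    Nonempty (LocCohZ.HZsh U q ≅ hzPre U q ⋙ presheafToSheaf JX AddCommGrpCat.{u}) :=
  ⟨SiteBase.rightDerivedCongr (sheafifyIso U) q ≪≫
    SiteBase.rightDerivedCompIso (LocCohZ.sectSuppF U ⋙ sheafToPresheaf JX AddCommGrpCat.{u})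
      (presheafToSheaf JX AddCommGrpCat.{u}) q ≪≫
    Functor.isoWhiskerRight ((pres U).rightDerivedIso q) _⟩

theorem resZ_eq_hzPre_map (F : CohTop.Ab X) (q : ℕ) {V W : Opens X} (h : W ≤ V)
    (x : LocCohZ.HZ F q (inf_le_left : V ⊓ U ≤ V)) :
    (((hzPre U q).obj F).map (homOfLE h).op).hom x =
      LocCohZ.resZ F q (inf_le_left : V ⊓ U ≤ V) (inf_le_left : W ⊓ U ≤ W) (inf_le_inf_right U h) h x := rfl

theorem isZero_HZsh_of_locally_zero (F : CohTop.Ab X) (q : ℕ)
    (h : ∀ (V : Opens X) (x : LocCohZ.HZ F q (inf_le_left : V ⊓ U ≤ V)), ∀ p ∈ V,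
      ∃ (W : Opens X) (hW : W ≤ V), p ∈ W ∧
        LocCohZ.resZ F q (inf_le_left : V ⊓ U ≤ V) (inf_le_left : W ⊓ U ≤ W) (inf_le_inf_right U hW) hW x = 0) :
    IsZero ((LocCohZ.HZsh U q).obj F) := by
  obtain ⟨e⟩ := nonempty_HZsh_iso U q
  refine IsZero.of_iso ?_ (e.app F)
  refine SiteBase.isZero_sheafify _ (fun V x => ?_)
  let S : Sieve V :=
    { arrows := fun W g => (((hzPre U q).obj F).map g.op).hom x = 0
      downward_closed := fun {A B f} hf g => by
        show (((hzPre U q).obj F).map (g ≫ f).op).hom x = 0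
        rw [op_comp, Functor.map_comp]
        exact (congrArg (fun z => (((hzPre U q).obj F).map g.op).hom z) hf).trans
          (map_zero (((hzPre U q).obj F).map g.op).hom) }
  refine ⟨S, ?_, fun W g hg => hg⟩
  intro p hp
  obtain ⟨W, hW, hpW, hzero⟩ := h V x p hp
  exact ⟨W, homOfLE hW, (resZ_eq_hzPre_map U F q hW x).trans hzero, hpW⟩

theorem isZero_HZsh_of_subsingleton (F : CohTop.Ab X) (q : ℕ)
    (h : ∀ V : Opens X, Subsingleton (LocCohZ.HZ F q (inf_le_left : V ⊓ U ≤ V))) :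
    IsZero ((LocCohZ.HZsh U q).obj F) :=
  isZero_HZsh_of_locally_zero U F q fun V _ _ hp => ⟨V, le_rfl, hp, @Subsingleton.elim _ (h V) _ _⟩

theorem subsingleton_HZ_of_isFlasque (F : CohTop.Ab X) [hF : TopCat.Sheaf.IsFlasque F] {W V : Opens X}
    (h : W ≤ V) (i : ℕ) : Subsingleton (LocCohZ.HZ F (i + 1) h) := by
  refine subsingleton_of_forall_eq 0 fun x => ?_
  have hS := LocCohZ.zqSeq_shortExact h
  have h2 : (Ext.mk₀ (LocCohZ.zqSeq h).g).comp x (zero_add (i + 1)) = 0 :=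
    @Subsingleton.elim (CohTop.HU F (i + 1) V) (SiteBase.subsingleton_HU_of_isFlasque F V i) _ _
  obtain ⟨y, hy⟩ := Ext.contravariant_sequence_exact₃ hS F x h2 (n₀ := i) (add_comm 1 i)
  rcases i with _ | i
  · obtain ⟨φ, rfl⟩ := (Ext.mk₀_bijective _ _).2 y
    obtain ⟨t, ht⟩ := (AddCommGrpCat.epi_iff_surjective _).1 (hF.epi (homOfLE h).op)
      (CohFree.evalGen JX W F φ)
    have hφ : CohCx.freeSheafMap JX (homOfLE h) ≫ CohFree.ofSect JX V F t = φ := by
      apply (CohFree.homEquivSect JX W F).injective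
      exact (CohFree.evalGen_freeSheafMap_comp JX (homOfLE h) F (CohFree.ofSect JX V F t)).trans
        ((congrArg (fun z => F.obj.map (homOfLE h).op z) (CohFree.evalGen_ofSect JX V F t)).trans ht)
    have hφ' : Ext.mk₀ φ = (Ext.mk₀ (LocCohZ.zqSeq h).f).comp (Ext.mk₀ (CohFree.ofSect JX V F t)) (zero_add 0) := by
      exact (congrArg Ext.mk₀ hφ).symm.trans (Ext.mk₀_comp_mk₀ _ _).symm
    rw [← hy, hφ']
    exact hS.extClass_comp_assoc _
  · have hy0 : y = 0 := @Subsingleton.elim (CohTop.HU F (i + 1) W) (SiteBase.subsingleton_HU_of_isFlasque F W i) _ _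
    rw [← hy, hy0]
    exact Ext.comp_zero _ _ _ _ _

theorem isZero_HZsh_of_isFlasque (F : CohTop.Ab X) [TopCat.Sheaf.IsFlasque F] (i : ℕ) :
    IsZero ((LocCohZ.HZsh U (i + 1)).obj F) :=
  isZero_HZsh_of_subsingleton U F _ fun _ => subsingleton_HZ_of_isFlasque F _ i

section Shift

variable {C : Type w} [Category.{v} C] [Abelian C] [HasExt.{u} C]

theorem exists_addEquiv_of_surjective {A B G G' : Type*} [AddCommGroup A] [AddCommGroup B] [AddCommGroup G]
    [AddCommGroup G'] (f : A →+ G) (g : B →+ G') (hf : Function.Surjective f) (hg : Function.Surjective g)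
    (e : A ≃+ B) (hker : ∀ a, f a = 0 ↔ g (e a) = 0) : Nonempty (G ≃+ G') := by
  let φ : G →+ G' := f.liftOfSurjective hf ⟨g.comp e.toAddMonoidHom, fun a ha => (hker a).1 ha⟩
  have hφ : ∀ a, φ (f a) = g (e a) := fun a =>
    AddMonoidHom.liftOfRightInverse_comp_apply f _ (Function.rightInverse_surjInv hf)
      ⟨g.comp e.toAddMonoidHom, fun a ha => (hker a).1 ha⟩ a
  refine ⟨AddEquiv.ofBijective φ ⟨(injective_iff_map_eq_zero φ).2 fun x hx => ?_, fun y => ?_⟩⟩
  · obtain ⟨a, rfl⟩ := hf x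
    exact (hker a).2 ((hφ a).symm.trans hx)
  · obtain ⟨b, rfl⟩ := hg y
    exact ⟨f (e.symm b), by rw [hφ, e.apply_symm_apply]⟩

theorem ext_shift {S : ShortComplex C} (hS : S.ShortExact) (A : C) (i : ℕ)
    (h₁ : Subsingleton (Ext.{u} A S.X₂ (i + 1))) (h₂ : Subsingleton (Ext.{u} A S.X₂ (i + 2))) :
    Nonempty (Ext.{u} A S.X₃ (i + 1) ≃+ Ext.{u} A S.X₁ (i + 2)) := by
  let δ : Ext.{u} A S.X₃ (i + 1) →+ Ext.{u} A S.X₁ (i + 2) := hS.extClass.postcomp A rfl
  refine ⟨AddEquiv.ofBijective δ ⟨(injective_iff_map_eq_zero δ).2 fun x hx => ?_, fun y => ?_⟩⟩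
  · obtain ⟨z, hz⟩ := Ext.covariant_sequence_exact₃ A hS x rfl hx
    rw [← hz, Subsingleton.elim z 0, Ext.zero_comp]
  · exact Ext.covariant_sequence_exact₁ A hS y (Subsingleton.elim _ _) rfl

end Shift


/-- If the local cohomology sheaves vanish between `1` and `n` and `Γ_Z F` is flasque, cohomology with supports is
given by sections of the sheaves. -/
theorem main (n : ℕ) : ∀ (F : CohTop.Ab X), TopCat.Sheaf.IsFlasque ((LocCohZ.sectSuppF U).obj F) →
    (∀ i, i < n → IsZero ((LocCohZ.HZsh U (i + 1)).obj F)) → ∀ V : Opens X,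
      (∀ i, i < n → Subsingleton (LocCohZ.HZ F (i + 1) (inf_le_left : V ⊓ U ≤ V))) ∧
      Nonempty (LocCohZ.HZ F (n + 1) (inf_le_left : V ⊓ U ≤ V) ≃+
        (((LocCohZ.HZsh U (n + 1)).obj F).obj.obj (op V) : AddCommGrpCat.{u})) := by
  haveI := preservesFiniteLimits_sectSuppF U
  induction n with
  | zero =>
    intro F hflas _ V
    refine ⟨fun i hi => absurd hi (Nat.not_lt_zero i), ?_⟩
    let S := ShortComplex.mk (Injective.ι F) (cokernel.π (Injective.ι F)) (cokernel.condition _)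
    have hS : S.ShortExact := { exact := ShortComplex.exact_of_g_is_cokernel _ (cokernelIsCokernel _) }
    haveI : TopCat.Sheaf.IsFlasque S.X₂ := SiteBase.isFlasque_of_injective (Injective.under F)
    haveI : TopCat.Sheaf.IsFlasque ((LocCohZ.sectSuppF U).obj S.X₂) := isFlasque_sectSuppF U _
    obtain ⟨e⟩ := QCoh.nonempty_R1_iso (LocCohZ.sectSuppF U) hS (isZero_HZsh_of_isFlasque U S.X₂ 0)
    let G := LocCohZ.sectSuppF U
    let c := cokernel.π (G.map S.g)
    have hgc : G.map S.g ≫ c = 0 := cokernel.condition _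
    let l : G.obj S.X₂ ⟶ kernel c := kernel.lift c (G.map S.g) hgc
    have hl : l ≫ kernel.ι c = G.map S.g := kernel.lift_ι _ _ _
    obtain ⟨hex, hmono⟩ := exact_map_and_mono U hS
    have hepi : Epi l := (ShortComplex.exact_of_g_is_cokernel (ShortComplex.mk (G.map S.g) c hgc)
      (cokernelIsCokernel _)).epi_kernelLift
    have hfl : G.map S.f ≫ l = 0 := by
      rw [← cancel_mono (kernel.ι c), Category.assoc, hl, zero_comp, ← G.map_comp, S.zero, G.map_zero]
    let T₁ := ShortComplex.mk (G.map S.f) l hfl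
    have hT₁ : T₁.ShortExact :=
      { exact := by
          let φ : T₁ ⟶ S.map G :=
            { τ₁ := 𝟙 _
              τ₂ := 𝟙 _
              τ₃ := kernel.ι c
              comm₁₂ := (Category.id_comp _).trans (Category.comp_id _).symm
              comm₂₃ := (Category.id_comp _).trans hl.symm }
          haveI : Epi φ.τ₁ := inferInstanceAs (Epi (𝟙 _))
          haveI : IsIso φ.τ₂ := inferInstanceAs (IsIso (𝟙 _))
          haveI : Mono φ.τ₃ := inferInstanceAs (Mono (kernel.ι c))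
          exact (ShortComplex.exact_iff_of_epi_of_isIso_of_mono φ).2 hex
        mono_f := hmono
        epi_g := hepi }
    haveI : TopCat.Sheaf.IsFlasque T₁.X₁ := hflas
    haveI : TopCat.Sheaf.IsFlasque T₁.X₂ := isFlasque_sectSuppF U _
    haveI hflK : TopCat.Sheaf.IsFlasque T₁.X₃ := TopCat.Sheaf.IsFlasque.of_shortExact_of_isFlasque₁₂ hT₁
    let T₂ := ShortComplex.mk (kernel.ι c) c (kernel.condition c)
    have hT₂ : T₂.ShortExact := { exact := ShortComplex.exact_of_f_is_kernel _ (kernelIsKernel c) }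
    haveI : TopCat.Sheaf.IsFlasque T₂.X₁ := hflK
    let δ : ((zqP U).obj V ⟶ S.X₃) →+ LocCohZ.HZ F 1 (inf_le_left : V ⊓ U ≤ V) :=
      ((hS.extClass).postcomp ((zqP U).obj V) (zero_add 1)).comp (Ext.addEquiv₀.symm : _ ≃+ _).toAddMonoidHom
    have hδ : Function.Surjective δ := fun y => by
      obtain ⟨x, hx⟩ := Ext.covariant_sequence_exact₁ ((zqP U).obj V) hS y
        (@Subsingleton.elim _ (subsingleton_HZ_of_isFlasque S.X₂ (inf_le_left : V ⊓ U ≤ V) 0) _ _) (zero_add 1)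
      obtain ⟨φ, rfl⟩ := (Ext.mk₀_bijective _ _).2 x
      exact ⟨φ, hx⟩
    have hker₁ : ∀ φ, δ φ = 0 ↔ ∃ ψ : (zqP U).obj V ⟶ S.X₂, ψ ≫ S.g = φ := fun φ => by
      constructor
      · intro h0
        obtain ⟨x, hx⟩ := Ext.covariant_sequence_exact₃ ((zqP U).obj V) hS (Ext.mk₀ φ) (zero_add 1) h0
        obtain ⟨ψ, rfl⟩ := (Ext.mk₀_bijective _ _).2 x
        rw [Ext.mk₀_comp_mk₀] at hx
        exact ⟨ψ, (Ext.mk₀_bijective _ _).1 hx⟩
      · rintro ⟨ψ, rfl⟩
        show (Ext.mk₀ (ψ ≫ S.g)).comp hS.extClass (zero_add 1) = 0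
        rw [← Ext.mk₀_comp_mk₀, Ext.comp_assoc (a₁₂ := 0) (a₂₃ := 1) (h₁₂ := zero_add 0) (h₂₃ := zero_add 1)
          (h := by omega), hS.comp_extClass, Ext.comp_zero]
    let π' : (G.obj S.X₃).obj.obj (op V) →+ (cokernel (G.map S.g)).obj.obj (op V) := (c.hom.app (op V)).hom
    have hπ' : Function.Surjective π' :=
      (AddCommGrpCat.epi_iff_surjective _).1 (TopCat.Sheaf.IsFlasque.epi_of_shortExact (U := V) hT₂)
    have hker₂ : ∀ t, π' t = 0 ↔ ∃ s, ((G.map S.g).hom.app (op V)).hom s = t := fun t => by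
      constructor
      · intro h0
        obtain ⟨k, hk⟩ := exists_section_of_shortExact hT₂ V t h0
        obtain ⟨s, hs⟩ := (AddCommGrpCat.epi_iff_surjective _).1
          (TopCat.Sheaf.IsFlasque.epi_of_shortExact (U := V) hT₁) k
        refine ⟨s, ?_⟩
        rw [← hk, ← hs]
        exact (congrArg (fun m => (m.hom.app (op V)).hom s) hl).symm
      · rintro ⟨s, rfl⟩
        exact congrArg (fun m => (m.hom.app (op V)).hom s) hgc
    obtain ⟨e₁⟩ := exists_addEquiv_of_surjective δ π' hδ hπ' (σ U S.X₃ V) fun φ => by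
      rw [hker₁, hker₂]
      constructor
      · rintro ⟨ψ, rfl⟩
        exact ⟨σ U _ V ψ, ((pres U).σ_comp V ψ S.g).symm⟩
      · rintro ⟨s, hs⟩
        exact ⟨(σ U _ V).symm s, (σ U _ V).injective (((pres U).σ_comp V _ S.g).trans
          ((congrArg _ ((σ U _ V).apply_symm_apply s)).trans hs))⟩
    exact ⟨e₁.trans ((((sheafToPresheaf JX AddCommGrpCat.{u}).mapIso e).app (op V)).addCommGroupIsoToAddEquiv).symm⟩
  | succ n ih =>
    intro F hflas hz V
    let S := ShortComplex.mk (Injective.ι F) (cokernel.π (Injective.ι F)) (cokernel.condition _)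
    have hS : S.ShortExact := { exact := ShortComplex.exact_of_g_is_cokernel _ (cokernelIsCokernel _) }
    haveI : TopCat.Sheaf.IsFlasque S.X₂ := SiteBase.isFlasque_of_injective (Injective.under F)
    let G := LocCohZ.sectSuppF U
    obtain ⟨e⟩ := QCoh.nonempty_R1_iso G hS (isZero_HZsh_of_isFlasque U S.X₂ 0)
    haveI : Epi (G.map S.g) :=
      Preadditive.epi_of_isZero_cokernel _ ((hz 0 (Nat.succ_pos n)).of_iso e.symm)
    obtain ⟨hex, hmono⟩ := exact_map_and_mono U hS
    have hT : (S.map G).ShortExact :=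
      { exact := hex, mono_f := hmono, epi_g := inferInstanceAs (Epi (G.map S.g)) }
    haveI : TopCat.Sheaf.IsFlasque (S.map G).X₁ := hflas
    haveI : TopCat.Sheaf.IsFlasque (S.map G).X₂ := isFlasque_sectSuppF U _
    have hflC : TopCat.Sheaf.IsFlasque (G.obj S.X₃) := TopCat.Sheaf.IsFlasque.of_shortExact_of_isFlasque₁₂ hT
    have shiftSh : ∀ i, Nonempty ((LocCohZ.HZsh U (i + 1)).obj S.X₃ ≅ (LocCohZ.HZsh U (i + 2)).obj S.X₁) := fun i =>
      QCoh.nonempty_shift_iso G hS i (isZero_HZsh_of_isFlasque U S.X₂ i) (isZero_HZsh_of_isFlasque U S.X₂ (i + 1))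
    have shiftHZ : ∀ i, Nonempty (LocCohZ.HZ S.X₃ (i + 1) (inf_le_left : V ⊓ U ≤ V) ≃+
        LocCohZ.HZ S.X₁ (i + 2) (inf_le_left : V ⊓ U ≤ V)) := fun i =>
      ext_shift hS _ i (subsingleton_HZ_of_isFlasque _ _ i) (subsingleton_HZ_of_isFlasque _ _ (i + 1))
    obtain ⟨hsub, ⟨eC⟩⟩ := ih S.X₃ hflC (fun i hi => by
      obtain ⟨es⟩ := shiftSh i
      exact (hz (i + 1) (Nat.succ_lt_succ hi)).of_iso es) V
    refine ⟨fun i hi => ?_, ?_⟩
    · rcases i with _ | i
      · -- degree one: sections of a zero sheaf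
        haveI : TopCat.Sheaf.IsFlasque (S.map G).X₁ := hflas
        refine subsingleton_of_forall_eq 0 fun y => ?_
        obtain ⟨x, rfl⟩ := Ext.covariant_sequence_exact₁ ((zqP U).obj V) hS y
          (@Subsingleton.elim _ (subsingleton_HZ_of_isFlasque S.X₂ (inf_le_left : V ⊓ U ≤ V) 0) _ _) (zero_add 1)
        obtain ⟨φ, rfl⟩ := (Ext.mk₀_bijective _ _).2 x
        obtain ⟨s, hs⟩ := (AddCommGrpCat.epi_iff_surjective _).1
          (TopCat.Sheaf.IsFlasque.epi_of_shortExact (U := V) hT) (σ U S.X₃ V φ)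
        have hφ : (σ U S.X₂ V).symm s ≫ S.g = φ :=
          (σ U _ V).injective (((pres U).σ_comp V _ S.g).trans
            ((congrArg _ ((σ U _ V).apply_symm_apply s)).trans hs))
        rw [← hφ, ← Ext.mk₀_comp_mk₀, Ext.comp_assoc (a₁₂ := 0) (a₂₃ := 1) (h₁₂ := zero_add 0)
          (h₂₃ := zero_add 1) (h := by omega), hS.comp_extClass, Ext.comp_zero]
        rfl
      · obtain ⟨eh⟩ := shiftHZ i
        haveI := hsub i (Nat.lt_of_succ_lt_succ hi)
        exact eh.symm.toEquiv.subsingleton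
    · obtain ⟨eh⟩ := shiftHZ n
      obtain ⟨es⟩ := shiftSh n
      exact ⟨eh.symm.trans (eC.trans (((sheafToPresheaf JX AddCommGrpCat.{u}).mapIso es).app (op V)).addCommGroupIsoToAddEquiv)⟩

theorem nonempty_HZ_zero_equiv (F : CohTop.Ab X) (V : Opens X) :
    Nonempty (LocCohZ.HZ F 0 (inf_le_left : V ⊓ U ≤ V) ≃+
      (((LocCohZ.HZsh U 0).obj F).obj.obj (op V) : AddCommGrpCat.{u})) := by
  haveI := preservesFiniteLimits_sectSuppF U
  exact ⟨(Ext.addEquiv₀.trans (σ U F V)).trans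
    (((sheafToPresheaf JX AddCommGrpCat.{u}).mapIso ((LocCohZ.sectSuppF U).rightDerivedZeroIsoSelf.app F)).app
      (op V)).addCommGroupIsoToAddEquiv.symm⟩

theorem isFlasque_of_isZero (G : CohTop.Ab X) (hG : IsZero G) : TopCat.Sheaf.IsFlasque G := by
  constructor
  intro A B i
  exact ⟨fun g h _ => ((((evaluation (Opens X)ᵒᵖ AddCommGrpCat.{u}).obj B).map_isZero
    ((sheafToPresheaf JX AddCommGrpCat.{u}).map_isZero hG))).eq_of_src g h⟩

/-- If `ℋ^i_Z F = 0` for `i < n` then `H^n_Z` is `Γ` of `ℋ^n_Z` and lower ones vanish. -/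
theorem of_isZero_below (F : CohTop.Ab X) (n : ℕ)
    (hz : ∀ i, i < n → IsZero ((LocCohZ.HZsh U i).obj F)) (V : Opens X) :
    (∀ i, i < n → Subsingleton (LocCohZ.HZ F i (inf_le_left : V ⊓ U ≤ V))) ∧
    Nonempty (LocCohZ.HZ F n (inf_le_left : V ⊓ U ≤ V) ≃+
      (((LocCohZ.HZsh U n).obj F).obj.obj (op V) : AddCommGrpCat.{u})) := by
  rcases n with _ | n
  · exact ⟨fun i hi => absurd hi (Nat.not_lt_zero i), nonempty_HZ_zero_equiv U F V⟩
  haveI := preservesFiniteLimits_sectSuppF U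
  have h0 := (hz 0 (Nat.succ_pos n)).of_iso ((LocCohZ.sectSuppF U).rightDerivedZeroIsoSelf.app F).symm
  obtain ⟨h1, h2⟩ := main U n F (isFlasque_of_isZero _ h0) (fun i hi => hz (i + 1) (Nat.succ_lt_succ hi)) V
  refine ⟨fun i hi => ?_, h2⟩
  rcases i with _ | i
  · obtain ⟨e⟩ := nonempty_HZ_zero_equiv U F V
    haveI : Subsingleton (((LocCohZ.HZsh U 0).obj F).obj.obj (op V) : AddCommGrpCat.{u}) :=
      AddCommGrpCat.subsingleton_of_isZero ((((evaluation (Opens X)ᵒᵖ AddCommGrpCat.{u}).obj (op V)).map_isZero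
        ((sheafToPresheaf JX AddCommGrpCat.{u}).map_isZero (hz 0 (Nat.succ_pos n)))))
    exact e.toEquiv.subsingleton
  · exact h1 i (Nat.lt_of_succ_lt_succ hi)

theorem isZero_HZsh_iff_subsingleton (F : CohTop.Ab X) (n : ℕ) :
    (∀ i, i < n → IsZero ((LocCohZ.HZsh U i).obj F)) ↔
      ∀ (V : Opens X) (i : ℕ), i < n → Subsingleton (LocCohZ.HZ F i (inf_le_left : V ⊓ U ≤ V)) :=
  ⟨fun h V => (of_isZero_below U F n h V).1,
    fun h i hi => isZero_HZsh_of_subsingleton U F i fun V => h V i hi⟩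

end Groth.Agent.LcSh80

end
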