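import Groth.Agent.LcSh80.Depth
import Groth.Agent.LC.CdBase
import Groth.Agent.S11618

/-!
# Vanishing of local cohomology sheaves above the dimension along the support
-/

set_option autoImplicit false
set_option linter.style.haveILetI false

universe u

open CategoryTheory CategoryTheory.Limits Opposite TopologicalSpace AlgebraicGeometry

noncomputable section

namespace Groth.Agent.LcSh80

theorem subsingleton_H_of_dim_lt (A : Type u) [CommRing A] [IsNoetherianRing A] (J : Ideal A) (N : Type u)
    [AddCommGroup N] [Module A N] [Module.Finite A N] (i : ℕ)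
    (h : ∀ p : PrimeSpectrum A, J ≤ p.asIdeal → ringKrullDim (Localization.AtPrime p.asIdeal) < (i : WithBot ℕ∞)) :
    Subsingleton (LocCoh.H J i N) := by
  rw [← Module.support_eq_empty_iff (R := A)]
  refine Set.eq_empty_iff_forall_notMem.2 fun p => ?_
  rw [Module.mem_support_iff, not_nontrivial_iff_subsingleton]
  obtain ⟨e⟩ := S11618.result A J p.asIdeal.primeCompl N i
  refine @Equiv.subsingleton _ _ e.toEquiv ?_
  by_cases hp : J ≤ p.asIdeal
  · obtain ⟨d, hd, hdi⟩ : ∃ d : ℕ, ringKrullDim (Localization.AtPrime p.asIdeal) ≤ (d : WithBot ℕ∞) ∧ d < i := by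
      have h1 := h p hp
      have h0 := ringKrullDim_nonneg_of_nontrivial (R := Localization.AtPrime p.asIdeal)
      revert h0 h1
      generalize ringKrullDim (Localization.AtPrime p.asIdeal) = D
      intro h1 h0
      induction D using WithBot.recBotCoe with
      | bot => exact absurd h0 (by simp)
      | coe a =>
        have h2 : a < (i : ℕ∞) := by exact_mod_cast h1
        obtain ⟨d, rfl⟩ := WithTop.ne_top_iff_exists.1 h2.ne_top
        exact ⟨d, le_rfl, WithTop.coe_lt_coe.1 h2⟩
    exact (LC.cdLE_of_ringKrullDim_le _ hd) _ i hdi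
  · obtain ⟨a, haJ, hap⟩ := SetLike.not_le_iff_exists.1 hp
    have htop : Ideal.map (algebraMap A (Localization p.asIdeal.primeCompl)) J = ⊤ :=
      Ideal.eq_top_of_isUnit_mem _ (Ideal.mem_map_of_mem _ haJ)
        (IsLocalization.map_units (Localization p.asIdeal.primeCompl) (⟨a, hap⟩ : p.asIdeal.primeCompl))
    haveI : IsNoetherianRing (Localization p.asIdeal.primeCompl) :=
      IsLocalization.isNoetherianRing p.asIdeal.primeCompl _ inferInstance
    refine (LC.le_idealDepth_iff_H _ _ (i + 1)).1 ?_ i (Nat.lt_succ_self i)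
    rw [LocCoh.idealDepth, if_pos (by rw [htop, Submodule.top_smul])]
    exact le_top

variable {X : Scheme.{u}} [IsLocallyNoetherian X] {M : X.Modules}

theorem isZero_HZsh_of_dim_lt (hM : Coh.IsCoh M) (U : X.Opens) (i : ℕ)
    (hi : ∀ x : X, x ∉ (U : Set X) → ringKrullDim (X.presheaf.stalk x) < (i : WithBot ℕ∞)) :
    IsZero ((LocCohZ.HZsh (X := X.carrier) U i).obj (Coh.toAb M)) := by
  refine isZero_HZsh_of_locally_zero (X := X.carrier) U _ i fun V ξ p hp => ?_
  obtain ⟨W, hW, hpW, hWV⟩ := exists_affine_mem_le (X := X) hp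
  haveI : IsNoetherianRing Γ(X, W) := IsLocallyNoetherian.component_noetherian ⟨W, hW⟩
  haveI : Module.Finite Γ(X, W) Γ(M, W) := (QCoh.isCoh_iff.1 hM).2 ⟨W, hW⟩
  obtain ⟨J, hJ, hJe⟩ := exists_chart hM.1 hW U
  haveI : Subsingleton (LocCoh.H J i Γ(M, W)) := subsingleton_H_of_dim_lt _ J _ i fun q hq => by
    obtain ⟨x, hx, rfl⟩ := exists_mem_primeIdealOf_eq hW q
    letI := QCoh.stalkAlg (X := X) hx
    haveI := QCoh.isLocalization_stalk' hW hx
    rw [ringKrullDim_eq_of_ringEquiv (IsLocalization.algEquiv (hW.primeIdealOf ⟨x, hx⟩).asIdeal.primeCompl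
      (Localization.AtPrime (hW.primeIdealOf ⟨x, hx⟩).asIdeal) (X.presheaf.stalk x)).toRingEquiv]
    exact hi x fun hxU => (hJ x hx).1 hxU hq
  exact ⟨W, hWV, hpW, @Subsingleton.elim _ (hJe i).some.toEquiv.subsingleton _ _⟩

end Groth.Agent.LcSh80

end
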