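import Groth.Agent.LcSh80.Compare
import Groth.Agent.H9Misc.SupportsSS
import Groth.Agent.S13590

/-!
# Functors corepresented by `ℤ_V/ℤ_W`, derived functors and spectral sequences
-/

set_option autoImplicit false
set_option linter.style.haveILetI false

universe u

open CategoryTheory CategoryTheory.Limits Opposite TopologicalSpace TopCat Topology

noncomputable section

namespace Groth.Agent.LcSh80

open SpObjSS (homFrom rightDerivedHomFromIso)

variable {X : TopCat.{u}}

local notation "JX" => Opens.grothendieckTopology X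

section zqHom

variable {W V : Opens X} (h : W ≤ V)

/-- A morphism out of `ℤ_V/ℤ_W` as a section over `V`. -/
def zqHom (F : CohTop.Ab X) : (LocCohZ.zq h ⟶ F) →+ F.obj.obj (op V) :=
  (CohFree.evalGen JX V F).comp (Preadditive.leftComp F (cokernel.π _))

theorem zqHom_injective (F : CohTop.Ab X) : Function.Injective (zqHom h F) := by
  intro a b hab
  apply coequalizer.hom_ext
  exact (CohFree.homEquivSect JX V F).injective hab

theorem range_zqHom (F : CohTop.Ab X) (s : F.obj.obj (op V)) :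
    (∃ φ, zqHom h F φ = s) ↔ F.obj.map (homOfLE h).op s = 0 := by
  constructor
  · rintro ⟨φ, rfl⟩
    refine (CohFree.evalGen_freeSheafMap_comp JX (homOfLE h) F (cokernel.π _ ≫ φ)).symm.trans ?_
    exact (congrArg _ ((cokernel.condition_assoc (CohCx.freeSheafMap JX (homOfLE h)) φ).trans zero_comp)).trans (map_zero _)
  · intro hs
    have hz : CohCx.freeSheafMap JX (homOfLE h) ≫ CohFree.ofSect JX V F s = 0 := by
      apply (CohFree.homEquivSect JX W F).injective
      rw [map_zero, CohFree.homEquivSect_apply, CohFree.evalGen_freeSheafMap_comp, CohFree.evalGen_ofSect]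
      exact hs
    refine ⟨cokernel.desc _ _ hz, ?_⟩
    refine (congrArg (CohFree.evalGen JX V F) (cokernel.π_desc _ _ hz)).trans ?_
    exact CohFree.evalGen_ofSect JX _ F s

theorem zqHom_comp {F G : CohTop.Ab X} (φ : LocCohZ.zq h ⟶ F) (g : F ⟶ G) :
    zqHom h G (φ ≫ g) = (g.hom.app (op V)).hom (zqHom h F φ) := by
  show CohFree.evalGen JX V G (cokernel.π _ ≫ φ ≫ g) = _
  rfl

/-- A functor corepresented by `ℤ_V/ℤ_W`, given by an embedding into sections. -/
theorem nonempty_homFrom_iso (S : CohTop.Ab X ⥤ AddCommGrpCat.{u})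
    (ι : ∀ F, S.obj F →+ F.obj.obj (op V)) (hinj : ∀ F, Function.Injective (ι F))
    (hrange : ∀ F s, (∃ t, ι F t = s) ↔ F.obj.map (homOfLE h).op s = 0)
    (hnat : ∀ {F G : CohTop.Ab X} (g : F ⟶ G) (t : S.obj F),
      ι G ((S.map g).hom t) = (g.hom.app (op V)).hom (ι F t)) :
    Nonempty (S ≅ homFrom (LocCohZ.zq h)) := by
  have hex : ∀ (F : CohTop.Ab X) (t : S.obj F), ∃ φ, zqHom h F φ = ι F t := fun F t =>
    (range_zqHom h F _).2 ((hrange F _).1 ⟨t, rfl⟩)
  let e : ∀ F : CohTop.Ab X, S.obj F ≃+ (LocCohZ.zq h ⟶ F) := fun F =>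
    AddEquiv.ofBijective
      (AddMonoidHom.mk' (fun t => (hex F t).choose) fun a b => zqHom_injective h F
        ((hex F (a + b)).choose_spec.trans ((map_add (ι F) a b).trans (Eq.trans
          (congrArg₂ (· + ·) (hex F a).choose_spec.symm (hex F b).choose_spec.symm)
          (map_add _ _ _).symm))))
      ⟨fun a b hab => hinj F (by
        rw [← (hex F a).choose_spec, ← (hex F b).choose_spec]
        exact congrArg (zqHom h F) hab),
      fun φ => by
        obtain ⟨t, ht⟩ := (hrange F _).2 ((range_zqHom h F _).1 ⟨φ, rfl⟩)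
        exact ⟨t, zqHom_injective h F ((hex F t).choose_spec.trans ht)⟩⟩
  have he : ∀ F t, zqHom h F (e F t) = ι F t := fun F t => (hex F t).choose_spec
  refine ⟨NatIso.ofComponents (fun F => AddEquiv.toAddCommGrpIso (Y := (homFrom (LocCohZ.zq h)).obj F) (e F)) fun {F G} g => ?_⟩
  refine AddCommGrpCat.hom_ext (AddMonoidHom.ext fun t => ?_)
  show e G ((S.map g).hom t) = e F t ≫ g
  apply zqHom_injective h G
  rw [he, hnat, zqHom_comp, he]

end zqHom

theorem nonempty_gammaZF_iso (U : Opens X) :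
    Nonempty (LocCohZ.gammaZF U ≅ homFrom (LocCohZ.zq (le_top : U ≤ (⊤ : Opens X)))) := by
  refine nonempty_homFrom_iso (le_top : U ≤ (⊤ : Opens X)) (LocCohZ.gammaZF U) (fun F => incl U F ⊤)
    (fun F => incl_injective U F ⊤) (fun F s => ?_) (fun g t => incl_map U g ⊤ t)
  refine (range_incl U F ⊤ s).trans ?_
  have e : F.obj.map (homOfLE (inf_le_left : ⊤ ⊓ U ≤ (⊤ : Opens X))).op s =
      F.obj.map (homOfLE (inf_le_right : ⊤ ⊓ U ≤ U)).op (F.obj.map (homOfLE (le_top : U ≤ (⊤ : Opens X))).op s) :=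
    (SuppFamLib.res_res F _ _ s).symm
  rw [e]
  exact SuppFamLib.res_eq_zero_iff F inf_le_right (le_inf le_top le_rfl) _

theorem nonempty_RHZ_iso_extFunctorObj (U : Opens X) (q : ℕ) :
    Nonempty (LocCohZ.RHZ U q ≅ Abelian.extFunctorObj.{u} (LocCohZ.zq (le_top : U ≤ (⊤ : Opens X))) q) := by
  obtain ⟨e⟩ := nonempty_gammaZF_iso U
  exact ⟨SiteBase.rightDerivedCongr e q ≪≫ SuppCore.rightDerivedHomFromNatIso _ q⟩

theorem nonempty_RHZ_iso_HZFunctor (U : Opens X) (q : ℕ) :
    Nonempty (LocCohZ.RHZ U q ≅ ToposFin.HZFunctor (LocCohZ.openSh U) q) := by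
  obtain ⟨e⟩ := nonempty_gammaZF_iso U
  exact ⟨SiteBase.rightDerivedCongr (e ≪≫ preadditiveCoyoneda.mapIso (LocCohZ.zqIsoQuotZ U).symm.op) q ≪≫
    SuppCore.rightDerivedHomFromNatIso _ q⟩

/-- `Γ(X, Γ_Z -) = Γ_Z(X, -)`. -/
theorem nonempty_sectSupp_homFree_iso (U : Opens X) :
    Nonempty (LocCohZ.sectSuppF U ⋙ homFrom (CohCx.freeSheaf JX (⊤ : Opens X)) ≅ LocCohZ.gammaZF U) := by
  let e := fun F : CohTop.Ab X => CohFree.homEquivSect JX (⊤ : Opens X) ((LocCohZ.sectSuppF U).obj F)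
  refine ⟨NatIso.ofComponents (fun F => AddEquiv.toAddCommGrpIso (Y := (LocCohZ.gammaZF U).obj F) (e F))
    fun {F G} g => ?_⟩
  refine AddCommGrpCat.hom_ext (AddMonoidHom.ext fun φ => ?_)
  rfl

theorem injective_sectSuppF (U : Opens X) (I : CohTop.Ab X) [Injective I] :
    Injective ((LocCohZ.sectSuppF U).obj I) :=
  S13590.injective_sectSupp U I

theorem exists_ss_HU_HZsh (F : CohTop.Ab X) (U : Opens X) :
    ∃ (E : E₂CohomologicalSpectralSequence AddCommGrpCat.{u})
      (a : SpSeq.Abutment E (fun n : ℤ =>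
        if 0 ≤ n then AddCommGrpCat.of (LocCohZ.HZc F n.toNat U) else AddCommGrpCat.of PUnit.{u + 1})),
      (∀ n : ℤ, a.IsFinite n) ∧ SpSeq.IsBounded E ∧
      ∀ p q : ℤ, Nonempty ((E.page 2 le_rfl).X (p, q) ≅
        (if 0 ≤ p ∧ 0 ≤ q then AddCommGrpCat.of (CohTop.HU ((LocCohZ.HZsh U q.toNat).obj F) p.toNat ⊤)
          else AddCommGrpCat.of PUnit.{u + 1})) := by
  obtain ⟨e₁⟩ := nonempty_sectSupp_homFree_iso U
  obtain ⟨e₂⟩ := nonempty_gammaZF_iso U
  exact SpObjSS.exists_grothendieck_spectralSequence' (LocCohZ.sectSuppF U) (homFrom (CohCx.freeSheaf JX (⊤ : Opens X)))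
    (fun Q hQ => by
      haveI := hQ
      haveI := injective_sectSuppF U Q
      exact TriCat.isRightAcyclic_of_injective _) F
    (fun n => AddCommGrpCat.of (LocCohZ.HZc F n U))
    (fun n => ⟨(SiteBase.rightDerivedCongr (e₁ ≪≫ e₂) n).app F ≪≫ rightDerivedHomFromIso _ n F⟩)
    (fun p q => AddCommGrpCat.of (CohTop.HU ((LocCohZ.HZsh U q).obj F) p ⊤))
    (fun p q => ⟨rightDerivedHomFromIso _ p _⟩)
    _ (AddCommGrpCat.isZero_of_subsingleton _)

theorem exists_ss_HZc_Rpush {Y : TopCat.{u}} (f : X ⟶ Y) (V : Opens Y) (F : CohTop.Ab X) :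
    ∃ (E : E₂CohomologicalSpectralSequence AddCommGrpCat.{u})
      (a : SpSeq.Abutment E (fun n : ℤ =>
        if 0 ≤ n then AddCommGrpCat.of (LocCohZ.HZc F n.toNat ((Opens.map f).obj V))
          else AddCommGrpCat.of PUnit.{u + 1})),
      (∀ n : ℤ, a.IsFinite n) ∧ SpSeq.IsBounded E ∧
      ∀ p q : ℤ, Nonempty ((E.page 2 le_rfl).X (p, q) ≅
        (if 0 ≤ p ∧ 0 ≤ q then AddCommGrpCat.of (LocCohZ.HZc ((CohTop.Rpush f q.toNat).obj F) p.toNat V)
          else AddCommGrpCat.of PUnit.{u + 1})) := by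
  haveI : (CohTop.push f).Additive := additive_push f
  obtain ⟨e⟩ : Nonempty (CohTop.push f ⋙ homFrom (LocCohZ.zq (le_top : V ≤ (⊤ : Opens Y))) ≅
      homFrom (LocCohZ.zq (le_top : (Opens.map f).obj V ≤ (⊤ : Opens X)))) := by
    refine nonempty_homFrom_iso _ _ (fun G => zqHom (le_top : V ≤ (⊤ : Opens Y)) ((CohTop.push f).obj G))
      (fun G => zqHom_injective _ _) (fun G s => ?_) (fun g t => zqHom_comp _ t ((CohTop.push f).map g))
    exact range_zqHom (le_top : V ≤ (⊤ : Opens Y)) ((CohTop.push f).obj G) s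
  exact SpObjSS.exists_grothendieck_spectralSequence' (CohTop.push f) (homFrom (LocCohZ.zq (le_top : V ≤ (⊤ : Opens Y))))
    (fun Q hQ => by
      haveI := hQ
      haveI := SiteBase.injective_push f Q
      exact TriCat.isRightAcyclic_of_injective _) F
    (fun n => AddCommGrpCat.of (LocCohZ.HZc F n ((Opens.map f).obj V)))
    (fun n => ⟨(SiteBase.rightDerivedCongr e n).app F ≪≫ rightDerivedHomFromIso _ n F⟩)
    (fun p q => AddCommGrpCat.of (LocCohZ.HZc ((CohTop.Rpush f q).obj F) p V))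
    (fun p q => ⟨rightDerivedHomFromIso _ p _⟩)
    _ (AddCommGrpCat.isZero_of_subsingleton _)

theorem nonempty_excision_iso {W V : Opens X} (h : W ≤ V) :
    Nonempty (CohTop.restrFunctor V ⋙ homFrom (LocCohZ.zq (le_top : (Opens.map (CohCx.incl V)).obj W ≤ ⊤)) ≅
      homFrom (LocCohZ.zq h)) := by
  let W' := (Opens.map (CohCx.incl V)).obj W
  let h' : W' ≤ ⊤ := le_top
  let img := V.isOpenEmbedding.isOpenMap.functor
  have htop : img.obj ⊤ = V := by
    ext y
    exact ⟨fun ⟨z, _, hz⟩ => hz ▸ z.2, fun hy => ⟨⟨y, hy⟩, trivial, rfl⟩⟩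
  have hW' : img.obj W' = W := by
    ext y
    exact ⟨fun ⟨z, hz, hzy⟩ => hzy ▸ hz, fun hy => ⟨⟨y, h hy⟩, hy, rfl⟩⟩
  let ι : ∀ F : CohTop.Ab X, (CohTop.restrFunctor V ⋙ homFrom (LocCohZ.zq h')).obj F →+ F.obj.obj (op V) :=
    fun F => (F.obj.map (homOfLE htop.ge).op).hom.comp (zqHom h' ((CohTop.restrFunctor V).obj F))
  exact nonempty_homFrom_iso h (CohTop.restrFunctor V ⋙ homFrom (LocCohZ.zq h')) ι
    (fun F a b hab => zqHom_injective h' _ (by
      rw [← sub_eq_zero]
      refine (SuppFamLib.res_eq_zero_iff F htop.ge htop.le _).1 ?_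
      exact (map_sub (F.obj.map (homOfLE htop.ge).op).hom _ _).trans (sub_eq_zero.2 hab)))
    (fun F s => by
      constructor
      · rintro ⟨t, rfl⟩
        have := (range_zqHom h' ((CohTop.restrFunctor V).obj F) _).1 ⟨t, rfl⟩
        refine (SuppFamLib.res_res F htop.ge h _).trans ?_
        refine Eq.trans (SuppFamLib.res_res F (img.monotone h') hW'.ge _).symm ?_
        exact (congrArg (fun z => F.obj.map (homOfLE hW'.ge).op z) this).trans (map_zero _)
      · intro hs
        obtain ⟨t, ht⟩ := (range_zqHom h' ((CohTop.restrFunctor V).obj F) (F.obj.map (homOfLE htop.le).op s)).2 (by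
          refine (SuppFamLib.res_res F htop.le (img.monotone h') s).trans ?_
          refine (SuppFamLib.res_res F h hW'.le s).symm.trans ?_
          rw [hs, map_zero]
          rfl)
        refine ⟨t, (congrArg (fun z => F.obj.map (homOfLE htop.ge).op z) ht).trans ?_⟩
        refine (SuppFamLib.res_res F htop.le htop.ge s).trans ?_
        exact ConcreteCategory.congr_hom (F.obj.map_id (op V)) s)
    (fun {F G} g t => by
      refine (congrArg (fun z => G.obj.map (homOfLE htop.ge).op z) (zqHom_comp h' t ((CohTop.restrFunctor V).map g))).trans ?_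
      exact (ConcreteCategory.congr_hom (g.hom.naturality (homOfLE htop.ge).op) _).symm)

theorem exists_ext_natural_of_iso {A B : Type (u + 1)} [Category.{u} A] [Abelian A] [HasExt.{u} A]
    [Category.{u} B] [Abelian B] [HasExt.{u} B]
    (E : A ⥤ B) (P : A) (Q : B) (i : ℕ)
    (Θ : Abelian.extFunctorObj.{u} P i ≅ E ⋙ Abelian.extFunctorObj.{u} Q i) :
    ∃ e : ∀ F : A, Abelian.Ext.{u} P F i ≃+ Abelian.Ext.{u} Q (E.obj F) i,
      ∀ (F G : A) (φ : F ⟶ G) (x : Abelian.Ext.{u} P F i),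
        e G (x.comp (Abelian.Ext.mk₀ φ) (add_zero i)) =
          (e F x).comp (Abelian.Ext.mk₀ (E.map φ)) (add_zero i) := by
  refine ⟨fun F => (Θ.app F).addCommGroupIsoToAddEquiv, fun F G φ x => ?_⟩
  have h := DFunLike.congr_fun (congrArg AddCommGrpCat.Hom.hom (Θ.hom.naturality φ)) x
  simp only [AddCommGrpCat.hom_comp] at h
  exact h

/-- Natural isomorphism of Ext functors from an isomorphism of corepresented functors. -/
def extIsoOfHomFromIso {A B : Type (u + 1)} [Category.{u} A] [Abelian A] [HasExt.{u} A]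
    [EnoughInjectives A] [Category.{u} B] [Abelian B] [HasExt.{u} B] [EnoughInjectives B]
    (E : A ⥤ B) [E.Additive] [PreservesFiniteLimits E] [PreservesFiniteColimits E]
    [E.PreservesInjectiveObjects] (P : A) (Q : B) (η : E ⋙ homFrom Q ≅ homFrom P) (i : ℕ) :
    Abelian.extFunctorObj.{u} P i ≅ E ⋙ Abelian.extFunctorObj.{u} Q i :=
  (SiteBase.rightDerivedCongr η i ≪≫ SuppCore.rightDerivedHomFromNatIso P i).symm ≪≫
    SiteBase.rightDerivedPrecompIso E (homFrom Q) i ≪≫
      Functor.isoWhiskerLeft E (SuppCore.rightDerivedHomFromNatIso Q i)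

theorem exists_excision_equiv {W V : Opens X} (h : W ≤ V) (i : ℕ) :
    ∃ e : ∀ F : CohTop.Ab X,
        LocCohZ.HZ F i h ≃+ LocCohZ.HZc (CohTop.restr F V) i ((Opens.map (CohCx.incl V)).obj W),
      ∀ (F G : CohTop.Ab X) (φ : F ⟶ G) (x : LocCohZ.HZ F i h),
        e G (LocCohZ.map φ i h x) =
          LocCohZ.map ((CohTop.restrFunctor V).map φ) i
            (le_top : (Opens.map (CohCx.incl V)).obj W ≤ ⊤) (e F x) := by
  haveI : PreservesFiniteLimits (CohTop.restrFunctor V) := preservesFiniteLimits_restr V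
  haveI : PreservesFiniteColimits (CohTop.restrFunctor V) := preservesFiniteColimits_restr V
  haveI : (CohTop.restrFunctor V).PreservesInjectiveObjects := preservesInjectives_restr V
  obtain ⟨η⟩ := nonempty_excision_iso h
  exact exists_ext_natural_of_iso (CohTop.restrFunctor V) (LocCohZ.zq h)
    (LocCohZ.zq (le_top : (Opens.map (CohCx.incl V)).obj W ≤ ⊤)) i
    (extIsoOfHomFromIso (CohTop.restrFunctor V) (LocCohZ.zq h)
      (LocCohZ.zq (le_top : (Opens.map (CohCx.incl V)).obj W ≤ ⊤)) η i)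

end Groth.Agent.LcSh80

end
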