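import Groth.Agent.LcSh80.Depth
import Groth.Agent.QCoh.LocFree
import Groth.Agent.KFlatLib.Ring.KerDepth

/-!
# Locally free modules and sections of local cohomology sheaves
-/

set_option autoImplicit false
set_option linter.style.haveILetI false

universe u

open CategoryTheory CategoryTheory.Limits Opposite TopologicalSpace AlgebraicGeometry

noncomputable section

namespace Groth.Agent.LcSh80

variable {X : Scheme.{u}} {M : X.Modules}

theorem finite_stalk_of_isFinLocFree (h : FlatMod.IsFinLocFree M) (x : X) :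
    Module.Finite (X.presheaf.stalk x) (M.presheaf.stalk x) := by
  obtain ⟨V, hV, n, hx, ⟨e⟩⟩ := QCoh.exists_affine_free h x
  obtain ⟨l⟩ := QCoh.exists_linearEquiv_of_freeIso e
  have : Module.Finite Γ(X, V) Γ(M, V) := Module.Finite.equiv ((QCoh.chartEquiv hV M).trans l).symm
  letI := QCoh.stalkAlg (X := X) hx
  letI := QCoh.stalkModule M hx
  haveI := QCoh.isScalarTower_stalk M hx
  haveI := QCoh.isLocalization_stalk' hV hx
  haveI := QCoh.isLocalizedModule_germLin (QCoh.isQCoh_of_isFinLocFree h) hV hx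
  exact Module.Finite.of_isLocalizedModule (hV.primeIdealOf ⟨x, hx⟩).asIdeal.primeCompl (QCoh.germLin M hx)

theorem le_depth_stalk_of_isFinLocFree [IsLocallyNoetherian X] (h : FlatMod.IsFinLocFree M) (x : X) (d : ℕ)
    (hd : (d : ℕ∞) ≤ LocCoh.depth (X.presheaf.stalk x) (X.presheaf.stalk x)) :
    (d : ℕ∞) ≤ LocCoh.depth (X.presheaf.stalk x) (M.presheaf.stalk x) := by
  haveI := QCoh.free_stalk_of_isFinLocFree h x
  haveI := finite_stalk_of_isFinLocFree h x
  let b := Module.finBasis (X.presheaf.stalk x) (M.presheaf.stalk x)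
  rw [LocCoh.depth, LC.idealDepth_congr _ b.equivFun]
  exact KFlatLib.le_idealDepth_pi _ d hd _

theorem isCoh_of_isFinLocFree' (h : FlatMod.IsFinLocFree M) : Coh.IsCoh M :=
  ⟨QCoh.isQCoh_of_isFinLocFree h, QCoh.isFT_of_isFP (QCoh.isFP_of_isFinLocFree h)⟩

theorem nonempty_sections_equiv [IsLocallyNoetherian X] (U : X.Opens) (d : ℕ)
    (hdepth : ∀ x : ↥X, x ∉ (U : Set ↥X) → (d : ℕ∞) ≤ LocCoh.depth ↑(X.presheaf.stalk x) ↑(X.presheaf.stalk x))
    (hM : FlatMod.IsFinLocFree M) :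
    Nonempty (↑(((LocCohZ.HZsh (X := X.carrier) U d).obj (Coh.toAb M)).obj.obj (op ⊤)) ≃+ LocCohZ.HZM X M d U) := by
  have hz := (isZero_HZsh_below_iff (isCoh_of_isFinLocFree' hM) U d).2
    fun x hx => le_depth_stalk_of_isFinLocFree hM x d (hdepth x hx)
  obtain ⟨e⟩ := (of_isZero_below (X := X.carrier) U (Coh.toAb M) d hz ⊤).2
  have key : ∀ (W : Opens X.carrier) (hW : W = U) (hle : W ≤ (⊤ : Opens X.carrier)),
      Nonempty (LocCohZ.HZ (Coh.toAb M) d hle ≃+ LocCohZ.HZM X M d U) := by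
    rintro W rfl hle
    exact ⟨AddEquiv.refl _⟩
  obtain ⟨e'⟩ := key ((⊤ : Opens X.carrier) ⊓ U) (top_inf_eq _) inf_le_left
  exact ⟨e.symm.trans e'⟩

end Groth.Agent.LcSh80

end
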