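import Groth.Agent.LcSh80.Hom

/-!
# The Mayer–Vietoris sequence of cohomology with supports
-/

set_option autoImplicit false
set_option linter.style.haveILetI false

universe u v

open CategoryTheory CategoryTheory.Limits Opposite TopologicalSpace TopCat Topology

noncomputable section

namespace Groth.Agent.LcSh80

/-- A complex is short exact if `Hom(-, I)` of it is short exact for every injective `I`. -/
theorem shortExact_of_hom_injective {C : Type v} [Category.{u} C] [Abelian C] [EnoughInjectives C]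
    (S : ShortComplex C)
    (h₁ : ∀ (I : C), Injective I → ∀ φ : S.X₁ ⟶ I, ∃ ψ : S.X₂ ⟶ I, S.f ≫ ψ = φ)
    (h₂ : ∀ (I : C), Injective I → ∀ ψ : S.X₂ ⟶ I, S.f ≫ ψ = 0 → ∃ χ : S.X₃ ⟶ I, S.g ≫ χ = ψ)
    (h₃ : ∀ (I : C), Injective I → ∀ χ : S.X₃ ⟶ I, S.g ≫ χ = 0 → χ = 0) : S.ShortExact where
  exact := by
    refine S.exact_iff_kernel_ι_comp_cokernel_π_zero.2 ?_
    obtain ⟨χ, hχ⟩ := h₂ (Injective.under (cokernel S.f)) inferInstance
      (cokernel.π S.f ≫ Injective.ι (cokernel S.f)) (by rw [cokernel.condition_assoc, zero_comp])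
    apply (cancel_mono (Injective.ι (cokernel S.f))).1
    rw [zero_comp, Category.assoc, ← hχ, kernel.condition_assoc, zero_comp]
  mono_f := by
    obtain ⟨ψ, hψ⟩ := h₁ (Injective.under S.X₁) inferInstance (Injective.ι S.X₁)
    exact mono_of_mono_fac hψ
  epi_g := by
    refine Preadditive.epi_of_cancel_zero _ fun {Z} k hk => ?_
    apply (cancel_mono (Injective.ι Z)).1
    rw [zero_comp]
    exact h₃ _ inferInstance _ (by rw [← Category.assoc, hk, zero_comp])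

theorem lift_neg_eq_zero {C : Type v} [Category.{u} C] [Abelian C] {P A B I : C} (a : P ⟶ A) (b : P ⟶ B)
    (ψ : A ⊞ B ⟶ I) (h : biprod.lift a (-b) ≫ ψ = 0) : a ≫ biprod.inl ≫ ψ = b ≫ biprod.inr ≫ ψ := by
  rw [biprod.lift_eq, Preadditive.add_comp, Preadditive.neg_comp, Preadditive.neg_comp,
    Category.assoc, Category.assoc, add_neg_eq_zero] at h
  exact h

/-- The `Ext` sequence of a Mayer–Vietoris short exact sequence. -/
theorem mv_ext {C : Type v} [Category.{u} C] [Abelian C] [HasExt.{u} C] {P A B Q : C} (a : P ⟶ A) (b : P ⟶ B)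
    (c : A ⟶ Q) (d : B ⟶ Q) (w : biprod.lift a (-b) ≫ biprod.desc c d = 0)
    (hS : (ShortComplex.mk _ _ w).ShortExact) (F : C) :
    Function.Injective (fun x : Abelian.Ext.{u} Q F 0 =>
      ((Abelian.Ext.mk₀ c).precomp F (zero_add 0) x, (Abelian.Ext.mk₀ d).precomp F (zero_add 0) x)) ∧
    ∃ δ : ∀ i : ℕ, Abelian.Ext.{u} P F i →+ Abelian.Ext.{u} Q F (i + 1),
      ∀ i : ℕ,
        (∀ y : Abelian.Ext.{u} A F i × Abelian.Ext.{u} B F i,
          (Abelian.Ext.mk₀ a).precomp F (zero_add i) y.1 - (Abelian.Ext.mk₀ b).precomp F (zero_add i) y.2 = 0 ↔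
            ∃ x : Abelian.Ext.{u} Q F i,
              (Abelian.Ext.mk₀ c).precomp F (zero_add i) x = y.1 ∧
              (Abelian.Ext.mk₀ d).precomp F (zero_add i) x = y.2) ∧
        (∀ z : Abelian.Ext.{u} P F i,
          δ i z = 0 ↔ ∃ y : Abelian.Ext.{u} A F i × Abelian.Ext.{u} B F i,
            (Abelian.Ext.mk₀ a).precomp F (zero_add i) y.1 - (Abelian.Ext.mk₀ b).precomp F (zero_add i) y.2 = z) ∧
        (∀ x : Abelian.Ext.{u} Q F (i + 1),
          ((Abelian.Ext.mk₀ c).precomp F (zero_add (i + 1)) x = 0 ∧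
            (Abelian.Ext.mk₀ d).precomp F (zero_add (i + 1)) x = 0) ↔ ∃ z : Abelian.Ext.{u} P F i, δ i z = x) := by
  have hdesc : ∀ (i : ℕ) (x : Abelian.Ext.{u} Q F i),
      (Abelian.Ext.mk₀ biprod.inl).comp ((Abelian.Ext.mk₀ (biprod.desc c d)).comp x (zero_add i)) (zero_add i) =
        (Abelian.Ext.mk₀ c).comp x (zero_add i) ∧
      (Abelian.Ext.mk₀ biprod.inr).comp ((Abelian.Ext.mk₀ (biprod.desc c d)).comp x (zero_add i)) (zero_add i) =
        (Abelian.Ext.mk₀ d).comp x (zero_add i) := fun i x => by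
    constructor <;> simp
  have hlift : ∀ (i : ℕ) (z : Abelian.Ext.{u} (A ⊞ B) F i),
      (Abelian.Ext.mk₀ (biprod.lift a (-b))).comp z (zero_add i) =
        (Abelian.Ext.mk₀ a).comp ((Abelian.Ext.mk₀ biprod.inl).comp z (zero_add i)) (zero_add i) -
          (Abelian.Ext.mk₀ b).comp ((Abelian.Ext.mk₀ biprod.inr).comp z (zero_add i)) (zero_add i) := fun i z => by
    rw [Abelian.Ext.mk₀_comp_mk₀_assoc, Abelian.Ext.mk₀_comp_mk₀_assoc, biprod.lift_eq, Abelian.Ext.mk₀_add,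
      Abelian.Ext.add_comp, Preadditive.neg_comp, Abelian.Ext.mk₀_neg, Abelian.Ext.neg_comp, sub_eq_add_neg]
  have hmk : ∀ (i : ℕ) (y : Abelian.Ext.{u} A F i) (y' : Abelian.Ext.{u} B F i), ∃ z : Abelian.Ext.{u} (A ⊞ B) F i,
      (Abelian.Ext.mk₀ biprod.inl).comp z (zero_add i) = y ∧ (Abelian.Ext.mk₀ biprod.inr).comp z (zero_add i) = y' :=
    fun i y y' => ⟨(Abelian.Ext.mk₀ biprod.fst).comp y (zero_add i) + (Abelian.Ext.mk₀ biprod.snd).comp y' (zero_add i),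
      by simp, by simp⟩
  refine ⟨fun x₁ x₂ h => ?_, fun i => hS.extClass.precomp F (Nat.add_comm 1 i), fun i => ⟨fun y => ?_, fun z => ?_, fun x => ?_⟩⟩
  · obtain ⟨f₁, rfl⟩ := (Abelian.Ext.mk₀_bijective _ _).2 x₁
    obtain ⟨f₂, rfl⟩ := (Abelian.Ext.mk₀_bijective _ _).2 x₂
    simp only [Prod.mk.injEq] at h
    have h₁ : (Abelian.Ext.mk₀ c).comp (Abelian.Ext.mk₀ f₁) (zero_add 0) =
        (Abelian.Ext.mk₀ c).comp (Abelian.Ext.mk₀ f₂) (zero_add 0) := h.1
    have h₂ : (Abelian.Ext.mk₀ d).comp (Abelian.Ext.mk₀ f₁) (zero_add 0) =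
        (Abelian.Ext.mk₀ d).comp (Abelian.Ext.mk₀ f₂) (zero_add 0) := h.2
    rw [Abelian.Ext.mk₀_comp_mk₀, Abelian.Ext.mk₀_comp_mk₀] at h₁ h₂
    haveI := hS.epi_g
    refine congrArg _ ((cancel_epi (biprod.desc c d)).1 ?_)
    apply biprod.hom_ext'
    · simpa using (Abelian.Ext.mk₀_bijective _ _).1 h₁
    · simpa using (Abelian.Ext.mk₀_bijective _ _).1 h₂
  · constructor
    · intro hy
      obtain ⟨z, hz₁, hz₂⟩ := hmk i y.1 y.2
      obtain ⟨x, hx⟩ := Abelian.Ext.contravariant_sequence_exact₂ hS F z (by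
        refine (hlift i z).trans ?_
        rw [hz₁, hz₂]
        exact hy)
      exact ⟨x, ((hdesc i x).1.symm.trans (by rw [hx])).trans hz₁, ((hdesc i x).2.symm.trans (by rw [hx])).trans hz₂⟩
    · rintro ⟨x, h₁, h₂⟩
      show (Abelian.Ext.mk₀ a).comp y.1 (zero_add i) - (Abelian.Ext.mk₀ b).comp y.2 (zero_add i) = 0
      rw [← h₁, ← h₂]
      show (Abelian.Ext.mk₀ a).comp ((Abelian.Ext.mk₀ c).comp x (zero_add i)) (zero_add i) -
        (Abelian.Ext.mk₀ b).comp ((Abelian.Ext.mk₀ d).comp x (zero_add i)) (zero_add i) = 0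
      rw [← (hdesc i x).1, ← (hdesc i x).2, ← hlift]
      simp [w]
  · constructor
    · intro hz
      obtain ⟨z', hz'⟩ := Abelian.Ext.contravariant_sequence_exact₁ hS F z (Nat.add_comm 1 i) hz
      exact ⟨(_, _), (hlift i z').symm.trans hz'⟩
    · rintro ⟨y, rfl⟩
      obtain ⟨z, hz₁, hz₂⟩ := hmk i y.1 y.2
      show hS.extClass.comp ((Abelian.Ext.mk₀ a).comp y.1 (zero_add i) -
        (Abelian.Ext.mk₀ b).comp y.2 (zero_add i)) (Nat.add_comm 1 i) = 0
      rw [← hz₁, ← hz₂, ← hlift]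
      exact hS.extClass_comp_assoc (h := Nat.add_comm 1 i) z
  · constructor
    · rintro ⟨h₁, h₂⟩
      refine Abelian.Ext.contravariant_sequence_exact₃ hS F x ?_ (Nat.add_comm 1 i)
      apply Abelian.Ext.biprod_ext
      · exact ((hdesc _ x).1.trans h₁).trans (Abelian.Ext.comp_zero _ _ _ _ _).symm
      · exact ((hdesc _ x).2.trans h₂).trans (Abelian.Ext.comp_zero _ _ _ _ _).symm
    · rintro ⟨z, rfl⟩
      refine ⟨(hdesc _ _).1.symm.trans ?_, (hdesc _ _).2.symm.trans ?_⟩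
      all_goals
        exact (congrArg (fun t => (Abelian.Ext.mk₀ _).comp t (zero_add (i + 1)))
          (hS.comp_extClass_assoc z (Nat.add_comm 1 i))).trans (Abelian.Ext.comp_zero _ _ _ _ _)

variable {X : TopCat.{u}}

local notation "JX" => Opens.grothendieckTopology X

theorem zqHom_zqMap {W V W' V' : Opens X} (h : W ≤ V) (h' : W' ≤ V') (hW : W' ≤ W) (hV : V' ≤ V)
    (F : CohTop.Ab X) (φ : LocCohZ.zq h ⟶ F) :
    zqHom h' F (LocCohZ.zqMap h h' hW hV ≫ φ) = F.obj.map (homOfLE hV).op (zqHom h F φ) := by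
  show CohFree.evalGen JX V' F (cokernel.π _ ≫ LocCohZ.zqMap h h' hW hV ≫ φ) = _
  refine (congrArg (CohFree.evalGen JX V' F) (cokernel.π_desc_assoc _ _ _ φ)).trans ?_
  refine (congrArg (CohFree.evalGen JX V' F) (Category.assoc _ _ _)).trans ?_
  exact CohFree.evalGen_freeSheafMap_comp JX (homOfLE hV) F (cokernel.π _ ≫ φ)

variable (U U' : Opens X)

/-- `zqMap` between closed supports. -/
abbrev zc {A B : Opens X} (hAB : A ≤ B) :
    LocCohZ.zq (le_top : A ≤ (⊤ : Opens X)) ⟶ LocCohZ.zq (le_top : B ≤ (⊤ : Opens X)) :=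
  LocCohZ.zqMap le_top le_top hAB le_rfl

theorem zqHom_zc {A B : Opens X} (hAB : A ≤ B) (F : CohTop.Ab X)
    (φ : LocCohZ.zq (le_top : B ≤ (⊤ : Opens X)) ⟶ F) :
    zqHom (le_top : A ≤ (⊤ : Opens X)) F (zc hAB ≫ φ) = zqHom (le_top : B ≤ (⊤ : Opens X)) F φ := by
  refine (zqHom_zqMap _ _ _ _ F φ).trans ?_
  exact (ConcreteCategory.congr_hom (F.obj.map_id (op ⊤)) _)

/-- The Mayer–Vietoris sequence of the sheaves `ℤ_X/ℤ_U`. -/
def mvSeq : ShortComplex (CohTop.Ab X) :=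
  ShortComplex.mk
    (biprod.lift (zc (inf_le_left : U ⊓ U' ≤ U)) (-zc (inf_le_right : U ⊓ U' ≤ U')))
    (biprod.desc (zc (le_sup_left : U ≤ U ⊔ U')) (zc (le_sup_right : U' ≤ U ⊔ U')))
    (by
      rw [biprod.lift_desc, Preadditive.neg_comp, ← sub_eq_add_neg, sub_eq_zero]
      apply (cancel_epi (cokernel.π _)).1
      simp only [zc, LocCohZ.zqMap, cokernel.π_desc_assoc, cokernel.π_desc, Category.assoc])

theorem mvSeq_shortExact : (mvSeq U U').ShortExact := by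
  refine shortExact_of_hom_injective _ ?_ ?_ ?_
  · intro I hI φ
    haveI : TopCat.Sheaf.IsFlasque I := SiteBase.isFlasque_of_injective I
    have hs : I.obj.map (homOfLE (le_top : U ⊓ U' ≤ ⊤)).op (zqHom _ I φ) = 0 :=
      (range_zqHom _ I _).1 ⟨φ, rfl⟩
    set s := zqHom _ I φ with hs_def
    let Wf : ULift.{u} Bool → Opens X := fun b => if b.down then U else U'
    let sf : ∀ b, I.obj.obj (op (Wf b)) := fun b => match b with
      | ⟨true⟩ => (0 : I.obj.obj (op U))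
      | ⟨false⟩ => I.obj.map (homOfLE (le_top : U' ≤ ⊤)).op s
    obtain ⟨t, ht, -⟩ := TopCat.Sheaf.existsUnique_gluing' I Wf (U ⊔ U')
      (fun b => homOfLE (by rcases b with ⟨_ | _⟩; exacts [le_sup_right, le_sup_left]))
      (sup_le (le_iSup Wf ⟨true⟩) (le_iSup Wf ⟨false⟩)) sf (by
        have key : ∀ (A : Opens X) (hA : A ≤ U ⊓ U'), I.obj.map (homOfLE (le_top : A ≤ ⊤)).op s = 0 := by
          intro A hA
          refine (SuppFamLib.res_res I (le_top : U ⊓ U' ≤ ⊤) hA s).symm.trans ?_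
          exact (congrArg (fun z => I.obj.map (homOfLE hA).op z) hs).trans (map_zero _)
        rintro ⟨_ | _⟩ ⟨_ | _⟩
        · exact (SuppFamLib.res_res I _ _ s).trans (SuppFamLib.res_res I _ _ s).symm
        · refine ((SuppFamLib.res_res I _ _ s).trans (key _ ?_)).trans (map_zero _).symm
          exact le_inf inf_le_right inf_le_left
        · refine (map_zero _).trans ((SuppFamLib.res_res I _ _ s).trans (key _ ?_)).symm
          exact le_inf inf_le_left inf_le_right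
        · rfl)
    have hepi : Epi (I.obj.map (homOfLE (le_top : U ⊔ U' ≤ (⊤ : Opens X))).op) :=
      TopCat.Presheaf.IsFlasque.epi _
    obtain ⟨y, hy⟩ := (AddCommGrpCat.epi_iff_surjective _).1 hepi t
    have hyU : I.obj.map (homOfLE (le_top : U ≤ ⊤)).op y = 0 := by
      refine (SuppFamLib.res_res I (le_top : U ⊔ U' ≤ ⊤) (le_sup_left : U ≤ U ⊔ U') y).symm.trans ?_
      exact (congrArg _ hy).trans (ht ⟨true⟩)
    have hyU' : I.obj.map (homOfLE (le_top : U' ≤ ⊤)).op (y - s) = 0 := by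
      rw [map_sub, sub_eq_zero]
      refine (SuppFamLib.res_res I (le_top : U ⊔ U' ≤ ⊤) (le_sup_right : U' ≤ U ⊔ U') y).symm.trans ?_
      exact (congrArg _ hy).trans (ht ⟨false⟩)
    obtain ⟨a, ha⟩ := (range_zqHom (le_top : U ≤ ⊤) I y).2 hyU
    obtain ⟨b, hb⟩ := (range_zqHom (le_top : U' ≤ ⊤) I (y - s)).2 hyU'
    refine ⟨biprod.desc a b, zqHom_injective _ I ?_⟩
    show zqHom _ I (biprod.lift _ _ ≫ biprod.desc a b) = _
    rw [biprod.lift_desc, Preadditive.neg_comp, map_add, map_neg, zqHom_zc, zqHom_zc, ha, hb]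
    abel
  · intro I _ ψ hψ
    have e : zc (inf_le_left : U ⊓ U' ≤ U) ≫ biprod.inl ≫ ψ =
        zc (inf_le_right : U ⊓ U' ≤ U') ≫ biprod.inr ≫ ψ := lift_neg_eq_zero _ _ ψ hψ
    have e' := congrArg (zqHom (le_top : U ⊓ U' ≤ (⊤ : Opens X)) I) e
    rw [zqHom_zc, zqHom_zc] at e'
    set z := zqHom (le_top : U ≤ (⊤ : Opens X)) I (biprod.inl ≫ ψ) with hz
    have hz0 : I.obj.map (homOfLE (le_top : U ⊔ U' ≤ ⊤)).op z = 0 := by
      refine TopCat.Sheaf.eq_of_locally_eq₂ I (homOfLE (le_sup_left : U ≤ U ⊔ U'))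
        (homOfLE (le_sup_right : U' ≤ U ⊔ U')) le_rfl _ _ ?_ ?_
      · refine ((SuppFamLib.res_res I _ _ z).trans ?_).trans (map_zero _).symm
        exact (range_zqHom _ I _).1 ⟨_, rfl⟩
      · refine ((SuppFamLib.res_res I _ _ z).trans ?_).trans (map_zero _).symm
        exact (range_zqHom _ I _).1 ⟨_, e'.symm⟩
    obtain ⟨χ, hχ⟩ := (range_zqHom (le_top : U ⊔ U' ≤ ⊤) I z).2 hz0
    refine ⟨χ, ?_⟩
    apply biprod.hom_ext'
    · refine (biprod.inl_desc_assoc _ _ _).trans (zqHom_injective _ I ?_)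
      exact (zqHom_zc _ I χ).trans hχ
    · refine (biprod.inr_desc_assoc _ _ _).trans (zqHom_injective _ I ?_)
      exact (zqHom_zc _ I χ).trans (hχ.trans e')
  · intro I _ χ hχ
    apply zqHom_injective _ I
    have e : zc (le_sup_left : U ≤ U ⊔ U') ≫ χ = 0 := by
      refine (biprod.inl_desc_assoc _ (zc (le_sup_right : U' ≤ U ⊔ U')) χ).symm.trans ?_
      exact (congrArg (biprod.inl ≫ ·) hχ).trans comp_zero
    refine (zqHom_zc (le_sup_left : U ≤ U ⊔ U') I χ).symm.trans ?_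
    exact (congrArg (zqHom _ I) e).trans ((map_zero _).trans (map_zero _).symm)

/-- `H^i_{Z ∩ Z'} → H^i_Z ⊕ H^i_{Z'} → H^i_{Z ∪ Z'} → H^{i+1}_{Z ∩ Z'}` is exact. -/
theorem mayerVietoris (F : CohTop.Ab X) :
    Function.Injective (fun x : LocCohZ.HZc F 0 (U ⊔ U') =>
      (LocCohZ.resZ F 0 (le_top : U ⊔ U' ≤ ⊤) (le_top : U ≤ ⊤) le_sup_left le_rfl x,
       LocCohZ.resZ F 0 (le_top : U ⊔ U' ≤ ⊤) (le_top : U' ≤ ⊤) le_sup_right le_rfl x)) ∧
    ∃ δ : ∀ i : ℕ, LocCohZ.HZc F i (U ⊓ U') →+ LocCohZ.HZc F (i + 1) (U ⊔ U'),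
      ∀ i : ℕ,
        (∀ y : LocCohZ.HZc F i U × LocCohZ.HZc F i U',
          LocCohZ.resZ F i (le_top : U ≤ ⊤) (le_top : U ⊓ U' ≤ ⊤) inf_le_left le_rfl y.1 -
              LocCohZ.resZ F i (le_top : U' ≤ ⊤) (le_top : U ⊓ U' ≤ ⊤) inf_le_right le_rfl y.2 = 0 ↔
            ∃ x : LocCohZ.HZc F i (U ⊔ U'),
              LocCohZ.resZ F i (le_top : U ⊔ U' ≤ ⊤) (le_top : U ≤ ⊤) le_sup_left le_rfl x = y.1 ∧
              LocCohZ.resZ F i (le_top : U ⊔ U' ≤ ⊤) (le_top : U' ≤ ⊤) le_sup_right le_rfl x = y.2) ∧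
        (∀ w : LocCohZ.HZc F i (U ⊓ U'),
          δ i w = 0 ↔ ∃ y : LocCohZ.HZc F i U × LocCohZ.HZc F i U',
            LocCohZ.resZ F i (le_top : U ≤ ⊤) (le_top : U ⊓ U' ≤ ⊤) inf_le_left le_rfl y.1 -
              LocCohZ.resZ F i (le_top : U' ≤ ⊤) (le_top : U ⊓ U' ≤ ⊤) inf_le_right le_rfl y.2 = w) ∧
        (∀ x : LocCohZ.HZc F (i + 1) (U ⊔ U'),
          (LocCohZ.resZ F (i + 1) (le_top : U ⊔ U' ≤ ⊤) (le_top : U ≤ ⊤) le_sup_left le_rfl x = 0 ∧
            LocCohZ.resZ F (i + 1) (le_top : U ⊔ U' ≤ ⊤) (le_top : U' ≤ ⊤) le_sup_right le_rfl x = 0) ↔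
            ∃ w : LocCohZ.HZc F i (U ⊓ U'), δ i w = x) :=
  mv_ext (zc (inf_le_left : U ⊓ U' ≤ U)) (zc (inf_le_right : U ⊓ U' ≤ U'))
    (zc (le_sup_left : U ≤ U ⊔ U')) (zc (le_sup_right : U' ≤ U ⊔ U')) _ (mvSeq_shortExact U U') F

end Groth.Agent.LcSh80
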