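import Groth.Agent.LcSh80.Affine
import Groth.Agent.QCoh.Ab.Restrict
import Groth.Agent.QCoh.FT

/-!
# Cohomology with supports over an affine open of a locally Noetherian scheme
-/

set_option autoImplicit false
set_option linter.style.haveILetI false

universe u

open CategoryTheory CategoryTheory.Limits Opposite TopologicalSpace AlgebraicGeometry Topology

noncomputable section

namespace Groth.Agent.LcSh80

open SpObjSS (homFrom)
open QCoh.Ab (restr)

section Emb

variable {A X : TopCat.{u}} {j : A ⟶ X} (hj : IsOpenEmbedding j)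

theorem preservesFiniteColimits_restrEmb : PreservesFiniteColimits (restr hj) :=
  haveI : (CohTop.pull j).IsLeftAdjoint :=
    (TopCat.Sheaf.pullbackPushforwardAdjunction AddCommGrpCat.{u} j).isLeftAdjoint
  haveI : PreservesFiniteColimits (CohTop.pull j) := inferInstance
  preservesFiniteColimits_of_natIso (hj.sheafPullbackIso AddCommGrpCat.{u})

theorem nonempty_emb_homFrom_iso {W V : Opens X} (h : W ≤ V) (hV : (V : Set X) = Set.range j) :
    Nonempty (restr hj ⋙ homFrom (LocCohZ.zq (le_top : (Opens.map j).obj W ≤ ⊤)) ≅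
      homFrom (LocCohZ.zq h)) := by
  let W' := (Opens.map j).obj W
  let h' : W' ≤ ⊤ := le_top
  let img := hj.isOpenMap.functor
  have htop : img.obj ⊤ = V := by
    refine Opens.ext ?_
    rw [hV]
    exact Set.image_univ
  have hW' : img.obj W' = W := by
    refine Opens.ext (Set.ext fun y => ⟨fun ⟨z, hz, hzy⟩ => hzy ▸ hz, fun hy => ?_⟩)
    have hyV : y ∈ Set.range j := hV ▸ (h hy : y ∈ (V : Set X))
    obtain ⟨z, rfl⟩ := hyV
    exact ⟨z, hy, rfl⟩
  let ι : ∀ F : CohTop.Ab X, (restr hj ⋙ homFrom (LocCohZ.zq h')).obj F →+ F.obj.obj (op V) :=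
    fun F => (F.obj.map (homOfLE htop.ge).op).hom.comp (zqHom h' ((restr hj).obj F))
  exact nonempty_homFrom_iso h (restr hj ⋙ homFrom (LocCohZ.zq h')) ι
    (fun F a b hab => zqHom_injective h' _ (by
      rw [← sub_eq_zero]
      refine (SuppFamLib.res_eq_zero_iff F htop.ge htop.le _).1 ?_
      exact (map_sub (F.obj.map (homOfLE htop.ge).op).hom _ _).trans (sub_eq_zero.2 hab)))
    (fun F s => by
      constructor
      · rintro ⟨t, rfl⟩
        have := (range_zqHom h' ((restr hj).obj F) _).1 ⟨t, rfl⟩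
        refine (SuppFamLib.res_res F htop.ge h _).trans ?_
        refine Eq.trans (SuppFamLib.res_res F (img.monotone h') hW'.ge _).symm ?_
        exact (congrArg (fun z => F.obj.map (homOfLE hW'.ge).op z) this).trans (map_zero _)
      · intro hs
        obtain ⟨t, ht⟩ := (range_zqHom h' ((restr hj).obj F) (F.obj.map (homOfLE htop.le).op s)).2 (by
          refine (SuppFamLib.res_res F htop.le (img.monotone h') s).trans ?_
          refine (SuppFamLib.res_res F h hW'.le s).symm.trans ?_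
          rw [hs, map_zero]
          rfl)
        refine ⟨t, (congrArg (fun z => F.obj.map (homOfLE htop.ge).op z) ht).trans ?_⟩
        refine (SuppFamLib.res_res F htop.le htop.ge s).trans ?_
        exact ConcreteCategory.congr_hom (F.obj.map_id (op V)) s)
    (fun {F G} g t => by
      refine (congrArg (fun z => G.obj.map (homOfLE htop.ge).op z) (zqHom_comp h' t ((restr hj).map g))).trans ?_
      exact (ConcreteCategory.congr_hom (g.hom.naturality (homOfLE htop.ge).op) _).symm)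

/-- Excision along an open embedding. -/
theorem nonempty_emb_excision {W V : Opens X} (h : W ≤ V) (hV : (V : Set X) = Set.range j)
    (F : CohTop.Ab X) (i : ℕ) :
    Nonempty (LocCohZ.HZ F i h ≃+ LocCohZ.HZc ((restr hj).obj F) i ((Opens.map j).obj W)) := by
  haveI := QCoh.Ab.preservesFiniteLimits_restr hj
  haveI := preservesFiniteColimits_restrEmb hj
  haveI : (restr hj).Additive := Functor.additive_of_preserves_binary_products _
  let Q := LocCohZ.zq (le_top : (Opens.map j).obj W ≤ ⊤)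
  obtain ⟨η⟩ := nonempty_emb_homFrom_iso hj h hV
  obtain ⟨e⟩ := SiteBase.nonempty_rightDerived_precomp_of_acyclic (restr hj) (homFrom Q) (fun I hI k => by
    haveI := hI
    haveI := SiteBase.isFlasque_of_injective I
    haveI := QCoh.Ab.isFlasque_restr hj I
    refine IsZero.of_iso ?_ (SpObjSS.rightDerivedHomFromIso Q (k + 1) ((restr hj).obj I))
    haveI := subsingleton_HZ_of_isFlasque ((restr hj).obj I) (le_top : (Opens.map j).obj W ≤ ⊤) k
    exact AddCommGrpCat.isZero_of_subsingleton _) i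
  exact ⟨((SpObjSS.rightDerivedHomFromIso (LocCohZ.zq h) i F).symm ≪≫
    (SiteBase.rightDerivedCongr η i).symm.app F ≪≫ e.app F ≪≫
      SpObjSS.rightDerivedHomFromIso Q i ((restr hj).obj F)).addCommGroupIsoToAddEquiv⟩

end Emb

/-- Isomorphic sheaves have the same cohomology with supports. -/
theorem nonempty_HZ_congr {X : TopCat.{u}} {F G : CohTop.Ab X} (e : F ≅ G) {W V : Opens X} (h : W ≤ V) (i : ℕ) :
    Nonempty (LocCohZ.HZ F i h ≃+ LocCohZ.HZ G i h) :=
  ⟨((Abelian.extFunctorObj.{u} (LocCohZ.zq h) i).mapIso e).addCommGroupIsoToAddEquiv⟩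

variable {X : Scheme.{u}}

theorem toAb_restrict_iso {Y : Scheme.{u}} (f : Y ⟶ X) [IsOpenImmersion f] (M : X.Modules) :
    Nonempty (Coh.toAb (M.restrict f) ≅ (restr f.isOpenEmbedding).obj (Coh.toAb M)) :=
  ⟨Iso.refl _⟩

/-- Over an affine open `V` of a locally Noetherian scheme, cohomology with supports of a quasi-coherent
module is local cohomology of its sections. -/
theorem exists_chart [IsLocallyNoetherian X] {M : X.Modules} (hM : Coh.IsQCoh M) {V : X.Opens}
    (hV : IsAffineOpen V) (U : X.Opens) :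
    ∃ J : Ideal Γ(X, V), (∀ (x : X) (hx : x ∈ V), x ∈ U ↔ ¬ J ≤ (hV.primeIdealOf ⟨x, hx⟩).asIdeal) ∧
      ∀ i : ℕ, Nonempty (LocCohZ.HZ (X := X.carrier) (Coh.toAb M) i (inf_le_left : V ⊓ U ≤ V) ≃+
        LocCoh.H J i Γ(M, V)) := by
  haveI : IsNoetherianRing Γ(X, V) := IsLocallyNoetherian.component_noetherian ⟨V, hV⟩
  let R : CommRingCat.{u} := Γ(X, V)
  let f : Spec R ⟶ X := hV.fromSpec
  let C : Set (PrimeSpectrum R) := ((f ⁻¹ᵁ (V ⊓ U)) : Set (Spec R))ᶜ
  let J : Ideal R := PrimeSpectrum.vanishingIdeal C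
  have hC : ∀ p : Spec R, p ∈ f ⁻¹ᵁ (V ⊓ U) ↔ ¬ J ≤ p.asIdeal := fun p => by
    have hcl : IsClosed C := (f ⁻¹ᵁ (V ⊓ U)).isOpen.isClosed_compl
    have : p ∈ PrimeSpectrum.zeroLocus (J : Set R) ↔ p ∈ C := by
      rw [PrimeSpectrum.zeroLocus_vanishingIdeal_eq_closure, hcl.closure_eq]
    exact Iff.trans (not_not (a := p ∈ f ⁻¹ᵁ (V ⊓ U))).symm (not_congr this.symm)
  refine ⟨J, fun x hx => ?_, fun i => ?_⟩
  · rw [← hC]
    show x ∈ U ↔ f.base (hV.primeIdealOf ⟨x, hx⟩) ∈ V ⊓ U
    rw [hV.fromSpec_primeIdealOf ⟨x, hx⟩]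
    exact ⟨fun h => ⟨hx, h⟩, fun h => h.2⟩
  obtain ⟨e₁⟩ := nonempty_emb_excision (X := X.carrier) f.isOpenEmbedding (inf_le_left : V ⊓ U ≤ V)
    hV.range_fromSpec.symm (Coh.toAb M) i
  have hiso : IsIso (M.restrict f).fromTildeΓ :=
    (isQuasicoherent_iff_isIso_fromTildeΓ _).1 (QCoh.isQCoh_restrict f hM)
  let ι : tilde (ModuleCat.of R Γ(M, V)) ≅ M.restrict f :=
    (tilde.functor R).mapIso (QCoh.chartEquiv hV M).toModuleIso ≪≫ @asIso _ _ _ _ (M.restrict f).fromTildeΓ hiso
  obtain ⟨ε⟩ := toAb_restrict_iso f M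
  obtain ⟨e₂⟩ := nonempty_HZ_congr (ε.symm ≪≫ ((QCoh.toAbFunctor (Spec R)).mapIso ι).symm)
    (le_top : (Opens.map f.base).obj (V ⊓ U) ≤ ⊤) i
  obtain ⟨e₃⟩ := nonempty_extFunctor_tAb_iso (R := R) (I := J) (U := f ⁻¹ᵁ (V ⊓ U)) hC i
  exact ⟨(e₁.trans e₂).trans (e₃.app (ModuleCat.of R Γ(M, V))).addCommGroupIsoToAddEquiv⟩

end Groth.Agent.LcSh80

end
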